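import Groth.Agent.Models7.NodeResolve.Basic
import Groth.Agent.BlowUpLib.Proper
import Groth.Agent.CAlgH.BlowupFlatPowers
import Groth.Agent.SDiv28.BlowUp
import Groth.Agent.Et18.H0Lift.BaseChangeRed
import Groth.Agent.Props12.Stalks

/-!
# Blowing up the singular points lowers the thickness
-/

set_option autoImplicit false
set_option backward.isDefEq.respectTransparency false
set_option linter.style.haveILetI false

universe u

open CategoryTheory CategoryTheory.Limits AlgebraicGeometry IsLocalRing SpinCurv TopologicalSpace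
open Groth.Agent.Clifford24.Nodal

namespace Groth.Agent.Models7.NodeResolve

/-- Étale pullback of a reduced closed subscheme. -/
theorem comap_vanishingIdeal_etale {U X : Scheme.{u}} (h : U ⟶ X) [Etale h] (Z : Closeds X) :
    (Scheme.IdealSheafData.vanishingIdeal Z).comap h =
      Scheme.IdealSheafData.vanishingIdeal (Z.preimage h.continuous) := by
  let I := Scheme.IdealSheafData.vanishingIdeal Z
  haveI : IsReduced I.subscheme := Props12.isReduced_subscheme_vanishingIdeal Z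
  haveI : Etale (pullback.snd h I.subschemeι) := MorphismProperty.pullback_snd _ _ inferInstance
  haveI : IsReduced (pullback h I.subschemeι) := Et18.H0Lift.isReduced_of_etale_source (pullback.snd h I.subschemeι)
  haveI : IsReduced (I.comap h).subscheme := isReduced_of_isOpenImmersion (I.comapIso h).hom
  rw [← Scheme.IdealSheafData.ker_subschemeι (I.comap h), Props12.ker_eq_vanishingIdeal]
  refine congrArg Scheme.IdealSheafData.vanishingIdeal (Closeds.ext ?_)
  show closure (Set.range (I.comap h).subschemeι) = h ⁻¹' (Z : Set X)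
  rw [(I.comap h).range_subschemeι, Scheme.IdealSheafData.support_comap]
  show closure (h ⁻¹' (I.support : Set X)) = _
  rw [Scheme.IdealSheafData.coe_support_vanishingIdeal]
  exact (Z.isClosed.preimage h.continuous).closure_eq

variable {R : Type u} [CommRing R] [IsDomain R] [IsDiscreteValuationRing R] {ϖ : R} (hϖ : Irreducible ϖ)

/-- The origin as a closed set. -/
noncomputable def originSet (ϖ : R) (m : ℕ) : Closeds (Spec (CommRingCat.of (Node R (ϖ ^ m)))) :=
  ⟨PrimeSpectrum.zeroLocus (originIdeal ϖ m : Set (PolyNodeRing R (ϖ ^ m))), PrimeSpectrum.isClosed_zeroLocus _⟩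

/-- The blown-up origin. -/
noncomputable def originCentre (ϖ : R) (m : ℕ) : (Spec (CommRingCat.of (Node R (ϖ ^ m)))).IdealSheafData :=
  Scheme.IdealSheafData.vanishingIdeal (originSet ϖ m)

include hϖ in
theorem ideal_originCentre {m : ℕ} (hm : 1 ≤ m) :
    (originCentre ϖ m).ideal ⟨⊤, isAffineOpen_top _⟩ =
      Ideal.map (Scheme.ΓSpecIso (CommRingCat.of (Node R (ϖ ^ m)))).inv.hom (originIdeal ϖ m) := by
  let e := (Scheme.ΓSpecIso (CommRingCat.of (Node R (ϖ ^ m)))).commRingCatIsoToRingEquiv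
  have h0 : (originCentre ϖ m).ideal ⟨⊤, isAffineOpen_top _⟩ = PrimeSpectrum.vanishingIdeal
      ((isAffineOpen_top (Spec (CommRingCat.of (Node R (ϖ ^ m))))).fromSpec ⁻¹' (originSet ϖ m : Set _)) := rfl
  rw [h0, IsAffineOpen.fromSpec_top, Scheme.isoSpec_Spec_inv]
  have h1 : (Spec.map (Scheme.ΓSpecIso (CommRingCat.of (Node R (ϖ ^ m)))).inv) ⁻¹' (originSet ϖ m : Set _) =
      PrimeSpectrum.comap e.symm.toRingHom ⁻¹' PrimeSpectrum.zeroLocus (originIdeal ϖ m : Set (PolyNodeRing R (ϖ ^ m))) := rfl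
  rw [h1, PrimeSpectrum.preimage_comap_zeroLocus, ← PrimeSpectrum.zeroLocus_span,
    PrimeSpectrum.vanishingIdeal_zeroLocus_eq_radical]
  show (Ideal.map e.symm.toRingHom (originIdeal ϖ m)).radical = Ideal.map e.symm.toRingHom (originIdeal ϖ m)
  haveI := isMaximal_originIdeal hϖ hm
  exact (Ideal.map_isPrime_of_equiv e.symm (I := originIdeal ϖ m)).radical

omit [IsDomain R] [IsDiscreteValuationRing R] in
/-- The structure map of a chart in the top open of an affine scheme. -/
theorem chart_struct {A B C : Type u} [CommRing A] [CommRing B] [CommRing C]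
    (J : (Spec (CommRingCat.of A)).IdealSheafData) (s : Γ(Spec (CommRingCat.of A), ⊤))
    (ψ : B ≃+* BlowUpLib.ChartRing J ⟨⊤, isAffineOpen_top _⟩ s) (ιA : C →+* A) (ιB : C →+* B)
    (hψ : ∀ r, ψ (ιB r) = algebraMap Γ(Spec (CommRingCat.of A), ⊤) (BlowUpLib.ChartRing J ⟨⊤, isAffineOpen_top _⟩ s)
      ((Scheme.ΓSpecIso (CommRingCat.of A)).inv (ιA r))) :
    Spec.map ψ.symm.toCommRingCatIso.hom ≫ BlowUpLib.chartMap J ⟨⊤, isAffineOpen_top _⟩ s ≫
      Spec.map (CommRingCat.ofHom ιA) = Spec.map (CommRingCat.ofHom ιB) := by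
  unfold BlowUpLib.chartMap
  rw [IsAffineOpen.fromSpec_top, Scheme.isoSpec_Spec_inv, Category.assoc, ← Spec.map_comp, ← Spec.map_comp,
    ← Spec.map_comp]
  congr 1
  ext r
  show ψ.symm (algebraMap Γ(Spec (CommRingCat.of A), ⊤) (BlowUpLib.ChartRing J ⟨⊤, isAffineOpen_top _⟩ s)
    ((Scheme.ΓSpecIso (CommRingCat.of A)).inv (ιA r))) = ιB r
  rw [RingEquiv.symm_apply_eq]
  exact (hψ r).symm

set_option maxHeartbeats 1000000 in
include hϖ in
/-- The blow-up of the origin is covered by node schemes of smaller thickness. -/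
theorem node_blowUp {m : ℕ} (hm : 2 ≤ m) (z : BlowUpLib.B (originCentre ϖ m)) :
    ∃ m', m' + 1 ≤ m ∧ ∃ c : Spec (CommRingCat.of (Node R (ϖ ^ m'))) ⟶ BlowUpLib.B (originCentre ϖ m),
      IsOpenImmersion c ∧
      c ≫ BlowUpLib.blowUpMap (originCentre ϖ m) ≫ nodeProj R (ϖ ^ m) = nodeProj R (ϖ ^ m') ∧
      z ∈ Set.range c.base := by
  let A := Spec (CommRingCat.of (Node R (ϖ ^ m)))
  let U : A.affineOpens := ⟨⊤, isAffineOpen_top _⟩
  let J := originCentre ϖ m
  let ε := (Scheme.ΓSpecIso (CommRingCat.of (Node R (ϖ ^ m)))).inv.hom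
  letI : Algebra R Γ(A, U.1) := (ε.comp (algebraMap R (PolyNodeRing R (ϖ ^ m)))).toAlgebra
  let e : PolyNodeRing R (ϖ ^ m) ≃ₐ[R] Γ(A, U.1) :=
    AlgEquiv.ofRingEquiv (f := (Scheme.ΓSpecIso (CommRingCat.of (Node R (ϖ ^ m)))).commRingCatIsoToRingEquiv.symm)
      (fun _ => rfl)
  have hI : J.ideal U = Ideal.span {e (PolyNodeRing.x R _), e (PolyNodeRing.y R _), algebraMap R Γ(A, U.1) ϖ} := by
    rw [ideal_originCentre hϖ (by omega), originIdeal, Ideal.map_span, Set.image_insert_eq, Set.image_insert_eq,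
      Set.image_singleton]
    rfl
  obtain ⟨s, hs, hmem⟩ := BlowUpLib.exists_mem_locus (BlowUpLib.blowUpMap J) BlowUpLib.good_blowUpMap
    (y := z) U trivial _ hI.symm
  have hsI : s ∈ J.ideal U := hI ▸ Ideal.subset_span hs
  have hz : z ∈ (BlowUpLib.chartι (⟨U, s, hsI⟩ : BlowUpLib.Idx J)).opensRange := by
    have h1 := BlowUpLib.preimage_opensRange_ι (𝟙 (BlowUpLib.B J)) (⟨U, s, hsI⟩ : BlowUpLib.Idx J)
      (by rw [Category.id_comp]; exact BlowUpLib.good_blowUpMap)
    rw [Category.id_comp] at h1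
    exact h1 hmem
  have h5 := exists_chart hϖ.ne_zero hm e rfl rfl (s := s) hs
  rw [← hI] at h5
  obtain ⟨m', hm', ψ, hψ⟩ := h5
  let ψ' : PolyNodeRing R (ϖ ^ m') ≃+* BlowUpLib.ChartRing J U s := ψ
  refine ⟨m', hm', Spec.map ψ'.symm.toCommRingCatIso.hom ≫ BlowUpLib.chartι (⟨U, s, hsI⟩ : BlowUpLib.Idx J),
    inferInstance, ?_, ?_⟩
  · rw [Category.assoc, ← Category.assoc (BlowUpLib.chartι _), BlowUpLib.ι_blowUpMap]
    exact chart_struct (A := Node R (ϖ ^ m)) (B := Node R (ϖ ^ m')) J s ψ' (nodeMap R (ϖ ^ m)) (nodeMap R (ϖ ^ m')) hψ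
  · obtain ⟨w, hw⟩ := hz
    obtain ⟨w', rfl⟩ := (Spec.map ψ'.symm.toCommRingCatIso.hom).surjective w
    exact ⟨w', hw⟩

end Groth.Agent.Models7.NodeResolve
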