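import Groth.Agent.Models7.NodeResolve.Regular
import Groth.Agent.Clifford24.Nodal.Crit
import Groth.Agent.Et18.EtaleLocalRing
import Groth.Agent.AlgSpLib.SourceRing

/-!
# Charts of bounded thickness
-/

set_option autoImplicit false
set_option backward.isDefEq.respectTransparency false
set_option linter.style.haveILetI false

universe u

open CategoryTheory CategoryTheory.Limits AlgebraicGeometry IsLocalRing SpinCurv
open Groth.Agent.Clifford24.Nodal

namespace Groth.Agent.Models7.NodeResolve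

variable {R : Type u} [CommRing R] (ϖ : R) {X : Scheme.{u}} (p : X ⟶ Spec (CommRingCat.of R))

/-- An étale neighbourhood étale over `uv = ϖ ^ m` with `m ≤ N`. -/
def NChart (N : ℕ) (x : X) : Prop :=
  ∃ (m : ℕ), m ≤ N ∧ ∃ (U : Scheme.{u}) (gU : U ⟶ X) (g : U ⟶ Spec (CommRingCat.of (Node R (ϖ ^ m)))),
    Etale gU ∧ Etale g ∧ gU ≫ p = g ≫ nodeProj R (ϖ ^ m) ∧ x ∈ Set.range gU.base

variable {ϖ p}

theorem NChart.mono {N N' : ℕ} {x : X} (h : NChart ϖ p N x) (hN : N ≤ N') : NChart ϖ p N' x := by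
  obtain ⟨m, hm, r⟩ := h
  exact ⟨m, hm.trans hN, r⟩

variable (ϖ p) in
theorem isOpen_nchart (N : ℕ) : IsOpen {x | NChart ϖ p N x} := by
  refine isOpen_iff_forall_mem_open.2 fun x hx => ?_
  obtain ⟨m, hm, U, gU, g, h1, h2, h3, h4⟩ := hx
  exact ⟨Set.range gU.base, fun y hy => ⟨m, hm, U, gU, g, h1, h2, h3, hy⟩, gU.isOpenMap.isOpen_range, h4⟩

variable (ϖ p) in
theorem exists_bound [CompactSpace X] (h : ∀ x, ∃ N, NChart ϖ p N x) : ∃ N, ∀ x, NChart ϖ p N x := by
  obtain ⟨t, ht⟩ := isCompact_univ.elim_finite_subcover (fun N => {x | NChart ϖ p N x})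
    (fun N => isOpen_nchart ϖ p N) fun x _ => Set.mem_iUnion.2 (h x)
  refine ⟨t.sup id, fun x => ?_⟩
  obtain ⟨N, hN, hx⟩ := Set.mem_iUnion₂.1 (ht (Set.mem_univ x))
  exact NChart.mono hx (Finset.le_sup (f := id) hN)

theorem NChart.hasChart {N : ℕ} {x : X} (h : NChart ϖ p N x) : HasChart p x := by
  obtain ⟨m, -, U, gU, g, h1, h2, h3, h4⟩ := h
  exact ⟨R, inferInstance, ϖ ^ m, U, gU, 𝟙 _, g, h1, inferInstance, h2, by rw [Category.comp_id, h3], h4⟩

theorem flat_nodeProj (π : R) : Flat (nodeProj R π) := by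
  rw [Flat.SpecMap_iff]
  haveI : Module.Free R (PolyNodeRing R π) := Module.Free.of_basis (NodeAlg29.elBasis π)
  show (algebraMap R (PolyNodeRing R π)).Flat
  exact RingHom.flat_algebraMap_iff.2 inferInstance

/-- Charts give flatness. -/
theorem flat_of_nchart {N : ℕ} (h : ∀ x, NChart ϖ p N x) : Flat p := by
  refine Flat.of_stalkMap p fun x => ?_
  obtain ⟨m, -, U, gU, g, h1, h2, h3, u, rfl⟩ := h x
  haveI := h1; haveI := h2; haveI := flat_nodeProj (R := R) (ϖ ^ m)
  haveI : Flat (gU ≫ p) := by rw [h3]; infer_instance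
  have h5 := Flat.stalkMap (gU ≫ p) u
  rw [Scheme.Hom.stalkMap_comp] at h5
  refine AlgSpLib.flat_of_comp _ (gU.stalkMap u).hom ?_ h5
  algebraize [(gU.stalkMap u).hom]
  haveI : Module.Flat (X.presheaf.stalk (gU u)) (U.presheaf.stalk u) := Flat.stalkMap gU u
  haveI : IsLocalHom (algebraMap (X.presheaf.stalk (gU u)) (U.presheaf.stalk u)) :=
    inferInstanceAs (IsLocalHom (gU.stalkMap u).hom)
  exact Module.FaithfullyFlat.of_flat_of_isLocalHom

/-- Regularity of a point of an affine scheme. -/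
theorem regular_spec_iff {A : Type u} [CommRing A] (z : ↥(Spec (CommRingCat.of A))) :
    IsRegularLocalRing ((Spec (CommRingCat.of A)).presheaf.stalk z) ↔
      IsRegularLocalRing (Localization.AtPrime (z : PrimeSpectrum A).asIdeal) := by
  let P : PrimeSpectrum A := z
  letI : Algebra A ((Spec (CommRingCat.of A)).presheaf.stalk z) :=
    (StructureSheaf.toStalk (CommRingCat.of A) z).hom.toAlgebra
  haveI : IsLocalization.AtPrime ((Spec (CommRingCat.of A)).presheaf.stalk z) P.asIdeal :=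
    StructureSheaf.IsLocalization.to_stalk _ P
  let e : (Spec (CommRingCat.of A)).presheaf.stalk z ≃+* Localization.AtPrime P.asIdeal :=
    (IsLocalization.algEquiv P.asIdeal.primeCompl _ _).toRingEquiv
  exact ⟨fun h => @IsRegularLocalRing.of_ringEquiv _ _ h _ _ e, fun h => @IsRegularLocalRing.of_ringEquiv _ _ h _ _ e.symm⟩

variable [IsDomain R] [IsDiscreteValuationRing R]

/-- The node schemes are locally Noetherian. -/
theorem isLocallyNoetherian_node (π : R) : IsLocallyNoetherian (Spec (CommRingCat.of (Node R π))) := inferInstance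

/-- The singular points in a chart. -/
theorem regular_iff_chart [IsLocallyNoetherian X] {m : ℕ} (hϖ : Irreducible ϖ) {U : Scheme.{u}} (gU : U ⟶ X)
    (g : U ⟶ Spec (CommRingCat.of (Node R (ϖ ^ m)))) [Etale gU] [Etale g] (u : U) :
    IsRegularLocalRing (X.presheaf.stalk (gU u)) ↔
      ¬ (2 ≤ m ∧ originIdeal ϖ m ≤ (g u : PrimeSpectrum (PolyNodeRing R (ϖ ^ m))).asIdeal) := by
  rw [← Et18.isRegularLocalRing_stalk_iff_of_etale gU u, Et18.isRegularLocalRing_stalk_iff_of_etale g u,
    regular_spec_iff]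
  constructor
  · rintro h ⟨hm, hle⟩
    exact not_regular hϖ hm _ hle h
  · intro h
    by_cases hm : m ≤ 1
    · exact regular_of_le_one hϖ hm _
    · by_cases hx : PolyNodeRing.x R (ϖ ^ m) ∈ (g u : PrimeSpectrum (PolyNodeRing R (ϖ ^ m))).asIdeal
      swap; · exact regular_of_x_notMem _ _ hx
      by_cases hy : PolyNodeRing.y R (ϖ ^ m) ∈ (g u : PrimeSpectrum (PolyNodeRing R (ϖ ^ m))).asIdeal
      swap; · exact regular_of_y_notMem _ _ hy
      refine absurd ⟨by omega, ?_⟩ h
      rw [originIdeal, Ideal.span_le]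
      rintro w (rfl | rfl | rfl)
      · exact hx
      · exact hy
      · refine (g u : PrimeSpectrum (PolyNodeRing R (ϖ ^ m))).isPrime.mem_of_pow_mem m ?_
        rw [← map_pow, ← x_mul_y']
        exact Ideal.mul_mem_left _ _ hy

theorem isRegular_of_nchart_one [IsLocallyNoetherian X] (hϖ : Irreducible ϖ) (h : ∀ x, NChart ϖ p 1 x) :
    ∀ x, IsRegularLocalRing (X.presheaf.stalk x) := fun x => by
  obtain ⟨m, hm, U, gU, g, h1, h2, -, u, rfl⟩ := h x
  haveI := h1; haveI := h2
  exact (regular_iff_chart hϖ gU g u).2 fun h => by omega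

end Groth.Agent.Models7.NodeResolve
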