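import Groth.Agent.Models7.NodeResolve.Step
import Mathlib.RingTheory.Unramified.LocalRing
import Mathlib.RingTheory.Filtration

/-!
# A nodal family with regular generic fibre has charts of bounded thickness
-/

set_option autoImplicit false
set_option backward.isDefEq.respectTransparency false
set_option linter.style.haveILetI false

universe u

open CategoryTheory CategoryTheory.Limits AlgebraicGeometry IsLocalRing SpinCurv
open Groth.Agent.Clifford24.Nodal

namespace Groth.Agent.Models7.NodeResolve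

/-- A non-zero element of a Noetherian local ring with principal maximal ideal. -/
theorem exists_unit_pow {O : Type u} [CommRing O] [IsLocalRing O] [IsNoetherianRing O] {t : O}
    (ht : maximalIdeal O = Ideal.span {t}) {a : O} (ha : a ≠ 0) : ∃ (ε : O) (n : ℕ), IsUnit ε ∧ a = ε * t ^ n := by
  by_contra hcon
  have key : ∀ n, a ∈ maximalIdeal O ^ n := fun n => by
    induction n with
    | zero => simp
    | succ n ih =>
      rw [ht, Ideal.span_singleton_pow, Ideal.mem_span_singleton'] at ih ⊢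
      obtain ⟨c, hc⟩ := ih
      by_cases hu : IsUnit c
      · exact absurd ⟨c, n, hu, hc.symm⟩ hcon
      · obtain ⟨d, hd⟩ := Ideal.mem_span_singleton'.1 (ht ▸ (mem_maximalIdeal c).2 hu : c ∈ Ideal.span {t})
        exact ⟨d, by rw [← hc, ← hd, pow_succ']; ring⟩
  have := Ideal.iInf_pow_eq_bot_of_isLocalRing (R := O) _ (maximalIdeal.isMaximal O).ne_top
  exact ha ((Ideal.mem_bot).1 (this ▸ Ideal.mem_iInf.2 key))

section node

variable {C : Type u} [CommRing C] {a : C}

/-- The prime of the origin over a prime containing `a`. -/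
theorem exists_origin (Q₀ : Ideal C) [Q₀.IsPrime] (ha : a ∈ Q₀)
    (w : Ideal (PolyNodeRing C a)) (hx : PolyNodeRing.x C a ∈ w) (hy : PolyNodeRing.y C a ∈ w)
    (hQ : Q₀ ≤ w.comap (algebraMap C _)) :
    ∃ w₀ : Ideal (PolyNodeRing C a), w₀.IsPrime ∧ w₀ ≤ w ∧ w₀.comap (algebraMap C _) = Q₀ ∧
      PolyNodeRing.x C a ∈ w₀ ∧ PolyNodeRing.y C a ∈ w₀ := by
  let σ : PolyNodeRing C a →ₐ[C] C ⧸ Q₀ := lift a 0 0 (by
    rw [mul_zero]
    exact (Ideal.Quotient.eq_zero_iff_mem.2 ha).symm)
  refine ⟨RingHom.ker σ.toRingHom, RingHom.ker_isPrime _, fun z hz => ?_, ?_, lift_x _, lift_y _⟩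
  · obtain ⟨f, rfl⟩ := Ideal.Quotient.mk_surjective z
    have h1 := NodePreimage.sub_algebraMap_mem a hx hy f
    have h2 := NodePreimage.sub_algebraMap_mem a (P := RingHom.ker σ.toRingHom) (lift_x _) (lift_y _) f
    have h3 : σ (algebraMap C _ (MvPolynomial.constantCoeff f)) = 0 := by
      have h4 : σ (Ideal.Quotient.mk _ f - algebraMap C _ (MvPolynomial.constantCoeff f)) = 0 := h2
      rw [map_sub, show σ (Ideal.Quotient.mk _ f) = 0 from hz, zero_sub, neg_eq_zero] at h4
      exact h4
    rw [AlgHom.commutes] at h3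
    have h5 := hQ (Ideal.Quotient.eq_zero_iff_mem.1 h3)
    simpa using add_mem h1 h5
  · ext r
    show σ (algebraMap C _ r) = 0 ↔ r ∈ Q₀
    rw [AlgHom.commutes]
    exact Ideal.Quotient.eq_zero_iff_mem

/-- The origin over a prime where `a` vanishes is not regular. -/
theorem not_regular_origin (Q₀ : Ideal C) [Q₀.IsPrime] {c : C} (hc : c ∉ Q₀) (hca : c * a = 0)
    (w₀ : Ideal (PolyNodeRing C a)) [w₀.IsPrime] (hQ : w₀.comap (algebraMap C _) = Q₀)
    (hx : PolyNodeRing.x C a ∈ w₀) (hy : PolyNodeRing.y C a ∈ w₀) :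
    ¬ IsRegularLocalRing (Localization.AtPrime w₀) := by
  intro hreg
  haveI := CAlgH3.isDomain_of_isRegularLocalRing (Localization.AtPrime w₀)
  have hcw : algebraMap C (PolyNodeRing C a) c ∉ w₀ := fun h => hc (hQ.le h)
  have h0 : algebraMap _ (Localization.AtPrime w₀) (PolyNodeRing.x C a * PolyNodeRing.y C a) = 0 := by
    refine (IsLocalization.map_eq_zero_iff w₀.primeCompl _ _).2 ⟨⟨_, hcw⟩, ?_⟩
    show algebraMap C (PolyNodeRing C a) c * (PolyNodeRing.x C a * PolyNodeRing.y C a) = 0
    rw [x_mul_y', ← map_mul, hca, map_zero]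
  have ha0 : algebraMap C (Localization.AtPrime Q₀) a = 0 :=
    (IsLocalization.map_eq_zero_iff Q₀.primeCompl _ _).2 ⟨⟨c, hc⟩, hca⟩
  -- the two axes
  have key : ∀ (ψ : PolyNodeRing C a →ₐ[C] Polynomial (Localization.AtPrime Q₀)) (z : PolyNodeRing C a),
      ψ z = Polynomial.X → Polynomial.aeval (R := Localization.AtPrime Q₀) (0 : Localization.AtPrime Q₀) (ψ (PolyNodeRing.x C a)) = 0 →
      Polynomial.aeval (R := Localization.AtPrime Q₀) (0 : Localization.AtPrime Q₀) (ψ (PolyNodeRing.y C a)) = 0 →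
      algebraMap _ (Localization.AtPrime w₀) z ≠ 0 := by
    intro ψ z hz h1 h2 h
    obtain ⟨⟨s, hs⟩, hsz⟩ := (IsLocalization.map_eq_zero_iff w₀.primeCompl _ _).1 h
    have h3 : ψ s * Polynomial.X = 0 := by rw [← hz, ← map_mul, hsz, map_zero]
    have h4 : ψ s = 0 := Polynomial.ext fun k => by
      have := congrArg (fun q => Polynomial.coeff q (k + 1)) h3
      simpa using this
    -- constant term
    obtain ⟨f, rfl⟩ := Ideal.Quotient.mk_surjective s
    let ev : PolyNodeRing C a →ₐ[C] Localization.AtPrime Q₀ :=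
      ((Polynomial.aeval (R := Localization.AtPrime Q₀) (0 : Localization.AtPrime Q₀)).restrictScalars C).comp ψ
    have hker : Ideal.Quotient.mk _ f - algebraMap C _ (MvPolynomial.constantCoeff f) ∈ RingHom.ker ev.toRingHom :=
      NodePreimage.sub_algebraMap_mem a (P := RingHom.ker ev.toRingHom) h1 h2 f
    have h5 : ev (algebraMap C _ (MvPolynomial.constantCoeff f)) = 0 := by
      have h6 : ev (Ideal.Quotient.mk _ f - algebraMap C _ (MvPolynomial.constantCoeff f)) = 0 := hker
      rw [map_sub, show ev (Ideal.Quotient.mk _ f) = 0 from by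
        show Polynomial.aeval _ (ψ _) = 0
        rw [h4, map_zero], zero_sub, neg_eq_zero] at h6
      exact h6
    rw [AlgHom.commutes] at h5
    obtain ⟨⟨d, hd⟩, hd'⟩ := (IsLocalization.map_eq_zero_iff Q₀.primeCompl _ _).1 h5
    have hd2 : algebraMap C (PolyNodeRing C a) (MvPolynomial.constantCoeff f) ∈ w₀ := by
      have h7 : algebraMap C (PolyNodeRing C a) d * algebraMap C (PolyNodeRing C a) (MvPolynomial.constantCoeff f) ∈ w₀ := by
        rw [← map_mul, show d * MvPolynomial.constantCoeff f = 0 from hd', map_zero]; exact w₀.zero_mem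
      exact ((Ideal.IsPrime.mem_or_mem ‹_› h7)).resolve_left fun h8 => hd (hQ.le h8)
    have h9 := NodePreimage.sub_algebraMap_mem a hx hy f
    refine hs ?_
    simpa using add_mem h9 hd2
  have hX0 : (0 : Polynomial (Localization.AtPrime Q₀)) = algebraMap C (Polynomial (Localization.AtPrime Q₀)) a := by
    rw [IsScalarTower.algebraMap_apply C (Localization.AtPrime Q₀) (Polynomial (Localization.AtPrime Q₀)), ha0, map_zero]
  rw [map_mul] at h0
  rcases mul_eq_zero.1 h0 with h | h
  · exact key (lift a Polynomial.X 0 (by rw [mul_zero]; exact hX0)) _ (lift_x _)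
      (by rw [lift_x]; simp) (by rw [lift_y]; simp) h
  · exact key (lift a 0 Polynomial.X (by rw [zero_mul]; exact hX0)) _ (lift_y _)
      (by rw [lift_x]; simp) (by rw [lift_y]; simp) h

/-- Maps out of the node ring are determined by the coordinates. -/
theorem ringHom_ext' {S : Type u} [CommRing S] {φ ψ : PolyNodeRing C a →+* S}
    (hC : ∀ r, φ (algebraMap C _ r) = ψ (algebraMap C _ r)) (hx : φ (PolyNodeRing.x C a) = ψ (PolyNodeRing.x C a))
    (hy : φ (PolyNodeRing.y C a) = ψ (PolyNodeRing.y C a)) : φ = ψ :=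
  Ideal.Quotient.ringHom_ext (MvPolynomial.ringHom_ext hC fun i => by fin_cases i; exacts [hx, hy])

/-- The open set where the first coordinate is invertible is the node scheme of `uv = 1`. -/
theorem exists_away_x (o : C) (ho : o = 1) : ∃ β : PolyNodeRing C o →+* Localization.Away (PolyNodeRing.x C a), Function.Bijective β ∧
    ∀ r, β (algebraMap C (PolyNodeRing C o) r) = algebraMap (PolyNodeRing C a) (Localization.Away (PolyNodeRing.x C a))
      (algebraMap C (PolyNodeRing C a) r) := by
  let L := Localization.Away (PolyNodeRing.x C a)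
  let b : PolyNodeRing C o →ₐ[C] L := lift o (algebraMap _ L (PolyNodeRing.x C a))
    (IsLocalization.Away.invSelf (PolyNodeRing.x C a)) (by rw [IsLocalization.Away.mul_invSelf, ho, map_one])
  let θ : PolyNodeRing C a →ₐ[C] PolyNodeRing C o := lift a (PolyNodeRing.x C o) (algebraMap C _ a * PolyNodeRing.y C o)
    (by rw [mul_left_comm, x_mul_y', ← map_mul, ho, mul_one])
  have hu : IsUnit (θ (PolyNodeRing.x C a)) := by
    rw [lift_x]
    exact IsUnit.of_mul_eq_one _ ((x_mul_y' o).trans ((congrArg _ ho).trans (map_one _)))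
  let α : L →+* PolyNodeRing C o := IsLocalization.Away.lift (PolyNodeRing.x C a) (g := θ.toRingHom) hu
  have hα : ∀ z, α (algebraMap _ L z) = θ z := fun z => IsLocalization.Away.lift_eq _ hu z
  have hbα : b.toRingHom.comp α = RingHom.id L := by
    refine IsLocalization.ringHom_ext (Submonoid.powers (PolyNodeRing.x C a))
      (ringHom_ext' (fun r => ?_) ?_ ?_) <;>
      simp only [RingHom.comp_apply, RingHom.id_apply, AlgHom.toRingHom_eq_coe, RingHom.coe_coe, hα]
    · rw [AlgHom.commutes, AlgHom.commutes, ← IsScalarTower.algebraMap_apply]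
    · rw [lift_x, lift_x]
    · rw [lift_y, map_mul, AlgHom.commutes, lift_y]
      refine (IsLocalization.Away.algebraMap_isUnit (S := L) (PolyNodeRing.x C a)).mul_right_cancel ?_
      rw [mul_assoc, mul_comm (IsLocalization.Away.invSelf _), IsLocalization.Away.mul_invSelf, mul_one,
        ← map_mul, mul_comm (PolyNodeRing.y C a), x_mul_y', ← IsScalarTower.algebraMap_apply]
  have hαb : α.comp b.toRingHom = RingHom.id _ := by
    refine ringHom_ext' (fun r => ?_) ?_ ?_ <;>
      simp only [RingHom.comp_apply, RingHom.id_apply, AlgHom.toRingHom_eq_coe, RingHom.coe_coe]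
    · rw [AlgHom.commutes, IsScalarTower.algebraMap_apply C (PolyNodeRing C a) L, hα, AlgHom.commutes]
    · rw [lift_x, hα, lift_x]
    · rw [lift_y]
      refine hu.mul_left_cancel ?_
      rw [← hα, ← map_mul, IsLocalization.Away.mul_invSelf, map_one, hα, lift_x, x_mul_y']
      exact ((congrArg _ ho).trans (map_one _)).symm
  refine ⟨b.toRingHom, ⟨?_, ?_⟩, fun r => ?_⟩
  · exact Function.LeftInverse.injective (g := α) fun z => RingHom.congr_fun hαb z
  · exact fun z => ⟨α z, RingHom.congr_fun hbα z⟩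
  show b (algebraMap C _ r) = _
  rw [AlgHom.commutes]
  exact IsScalarTower.algebraMap_apply C (PolyNodeRing C a) L r

end node

variable {R : Type u} [CommRing R] {ϖ : R} {X : Scheme.{u}} (p : X ⟶ Spec (CommRingCat.of R))

/-- A chart with `a` a unit multiple of a power of the uniformiser. -/
theorem nchart_of_scaled {C : Type u} [CommRing C] [Algebra R C] [Algebra.Etale R C] {a ε : C} {m N : ℕ} (hm : m ≤ N)
    (hε : IsUnit ε) (ha : a = ε * algebraMap R C (ϖ ^ m)) {U : Scheme.{u}} (gU : U ⟶ X)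
    (g : U ⟶ Spec (CommRingCat.of (Node C a))) [Etale gU] [Etale g]
    (h4 : gU ≫ p = g ≫ nodeProj C a ≫ Spec.map (CommRingCat.ofHom (algebraMap R C))) (u : U) :
    NChart ϖ p N (gU u) := by
  obtain ⟨η, rfl⟩ := hε
  let b : C := algebraMap R C (ϖ ^ m)
  let fw : PolyNodeRing C b →ₐ[C] PolyNodeRing C a := lift b (PolyNodeRing.x C a)
    (algebraMap C _ (↑η⁻¹ : C) * PolyNodeRing.y C a) (by
      rw [mul_left_comm, x_mul_y', ← map_mul, ha, ← mul_assoc, Units.inv_mul, one_mul])
  let bw : PolyNodeRing C a →ₐ[C] PolyNodeRing C b := lift a (PolyNodeRing.x C b)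
    (algebraMap C _ (η : C) * PolyNodeRing.y C b) (by
      rw [mul_left_comm, x_mul_y', ← map_mul, ha])
  let e : PolyNodeRing C b ≃ₐ[C] PolyNodeRing C a := AlgEquiv.ofAlgHom fw bw
    (hom_ext (by simp [fw, bw, lift_x])
      (by rw [AlgHom.comp_apply, AlgHom.id_apply, lift_y, map_mul, AlgHom.commutes, lift_y, ← mul_assoc, ← map_mul,
        Units.mul_inv, map_one, one_mul]))
    (hom_ext (by simp [fw, bw, lift_x])
      (by rw [AlgHom.comp_apply, AlgHom.id_apply, lift_y, map_mul, AlgHom.commutes, lift_y, ← mul_assoc, ← map_mul,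
        Units.inv_mul, map_one, one_mul]))
  have hC : Etale (Spec.map (CommRingCat.ofHom (algebraMap R C))) :=
    (HasRingHomProperty.Spec_iff (P := @Etale)).2 (RingHom.etale_algebraMap.2 inferInstance)
  have hbc : (nodeBC (algebraMap R C) (ϖ ^ m)).Etale := (HasRingHomProperty.Spec_iff (P := @Etale)).1
    (MorphismProperty.of_isPullback
      (isPullback_SpecMap_of_isPushout _ _ _ _ (isPushout_nodeBC (algebraMap R C) (ϖ ^ m))) hC)
  let θ : Node R (ϖ ^ m) →+* Node C a := e.toRingEquiv.toRingHom.comp (nodeBC (algebraMap R C) (ϖ ^ m))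
  have hθ : θ.Etale := RingHom.Etale.stableUnderComposition _ _ hbc (RingHom.Etale.of_bijective e.bijective)
  haveI : Etale (Spec.map (CommRingCat.ofHom θ)) := (HasRingHomProperty.Spec_iff (P := @Etale)).2 hθ
  refine ⟨m, hm, U, gU, g ≫ Spec.map (CommRingCat.ofHom θ), inferInstance, inferInstance, ?_, u, rfl⟩
  rw [h4, Category.assoc]
  simp only [nodeProj, ← Spec.map_comp]
  congr 2
  ext r
  show nodeMap C a (algebraMap R C r) = e (nodeBC (algebraMap R C) (ϖ ^ m) (nodeMap R (ϖ ^ m) r))
  rw [← RingHom.comp_apply (nodeBC (algebraMap R C) (ϖ ^ m)), nodeBC_comp]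
  exact (e.commutes _).symm

/-- A chart near a point where the first coordinate is invertible. -/
theorem nchart_of_x {C : Type u} [CommRing C] [Algebra R C] [Algebra.Etale R C] {a : C} {U : Scheme.{u}} (gU : U ⟶ X)
    (g : U ⟶ Spec (CommRingCat.of (Node C a))) [Etale gU] [Etale g]
    (h4 : gU ≫ p = g ≫ nodeProj C a ≫ Spec.map (CommRingCat.ofHom (algebraMap R C))) (u : U)
    (hx : PolyNodeRing.x C a ∉ (g u : PrimeSpectrum (PolyNodeRing C a)).asIdeal) : NChart ϖ p 0 (gU u) := by
  let L := Localization.Away (PolyNodeRing.x C a)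
  let j := Spec.map (CommRingCat.ofHom (algebraMap (PolyNodeRing C a) L))
  haveI : IsOpenImmersion j := IsOpenImmersion.of_isLocalization (PolyNodeRing.x C a)
  obtain ⟨β, hβbij, hβ⟩ := exists_away_x (C := C) (a := a) 1 rfl
  obtain ⟨z, hz⟩ : g u ∈ Set.range j.base := by
    have h := PrimeSpectrum.localization_away_comap_range L (PolyNodeRing.x C a)
    exact h.ge hx
  obtain ⟨v, hv, -⟩ := Scheme.Pullback.exists_preimage_pullback (f := g) (g := j) u z hz.symm
  haveI : Etale (pullback.snd g j) := MorphismProperty.pullback_snd _ _ ‹Etale g›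
  haveI : Etale (pullback.fst g j) := MorphismProperty.pullback_fst _ _ inferInstance
  let gb := Spec.map (CommRingCat.ofHom β)
  haveI : Etale gb := (HasRingHomProperty.Spec_iff (P := @Etale)).2 (RingHom.Etale.of_bijective hβbij)
  have key := nchart_of_scaled (ϖ := ϖ) p (C := C) (a := (1 : C)) (ε := 1) (m := 0) (N := 0) le_rfl isUnit_one
    (by rw [one_mul, pow_zero, map_one]) (pullback.fst g j ≫ gU) (pullback.snd g j ≫ gb) (by
      rw [Category.assoc, h4, pullback.condition_assoc, Category.assoc]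
      simp only [nodeProj, j, gb, ← Spec.map_comp]
      congr 2
      ext r
      exact (hβ (algebraMap R C r)).symm) v
  rwa [Scheme.Hom.comp_apply, hv] at key

variable [IsDomain R] [IsDiscreteValuationRing R] (hϖ : Irreducible ϖ)
include hϖ

/-- In an étale algebra the local parameter is the uniformiser. -/
theorem exists_unit_pow_etale {C : Type u} [CommRing C] [Algebra R C] [Algebra.Etale R C] (Q : Ideal C) [Q.IsPrime]
    (a : C) (ha : algebraMap C (Localization.AtPrime Q) a ≠ 0) :
    ∃ (ε : Localization.AtPrime Q) (n : ℕ), IsUnit ε ∧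
      algebraMap C _ a = ε * algebraMap R (Localization.AtPrime Q) (ϖ ^ n) := by
  haveI : IsNoetherianRing C := Algebra.FiniteType.isNoetherianRing R C
  let P := Q.comap (algebraMap R C)
  haveI : Q.LiesOver P := ⟨rfl⟩
  letI := Localization.AtPrime.algebraOfLiesOver P Q
  haveI : Algebra.FormallyUnramified R (Localization.AtPrime Q) := Algebra.FormallyUnramified.comp R C _
  haveI : Algebra.IsUnramifiedAt R Q := ‹_›
  have hm := ((Algebra.isUnramifiedAt_iff_map_eq R P Q).1 inferInstance).2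
  by_cases hQ : ϖ ∈ P
  · have hP : P = Ideal.span {ϖ} := by
      rw [← hϖ.maximalIdeal_eq]
      refine ((maximalIdeal.isMaximal R).eq_of_le (Ideal.IsPrime.ne_top inferInstance) ?_).symm
      rw [hϖ.maximalIdeal_eq, Ideal.span_le, Set.singleton_subset_iff]
      exact hQ
    rw [hP, Ideal.map_span, Set.image_singleton] at hm
    obtain ⟨ε, n, hε, h⟩ := exists_unit_pow hm.symm ha
    exact ⟨ε, n, hε, by rw [h, map_pow]⟩
  · have hP : P = ⊥ := by
      by_contra hne
      haveI := Ideal.IsPrime.isMaximal (inferInstanceAs P.IsPrime) hne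
      exact hQ ((IsLocalRing.eq_maximalIdeal (show P.IsMaximal from inferInstance)).symm ▸ hϖ.not_isUnit)
    rw [hP, Ideal.map_bot] at hm
    refine ⟨algebraMap C _ a, 0, IsLocalRing.notMem_maximalIdeal.1 fun h => ha ?_, by rw [pow_zero, map_one, mul_one]⟩
    rw [← hm] at h
    exact (Ideal.mem_bot).1 h

/-- The equation of a node of a chart does not vanish. -/
theorem ne_zero_at (hgen : ∀ x, ϖ ∉ (p x : PrimeSpectrum R).asIdeal → IsRegularLocalRing (X.presheaf.stalk x))
    [IsLocallyNoetherian X] {C : Type u} [CommRing C] [Algebra R C] [Algebra.Etale R C] {a : C} {U : Scheme.{u}}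
    (gU : U ⟶ X) (g : U ⟶ Spec (CommRingCat.of (Node C a))) [Etale gU] [Etale g]
    (h4 : gU ≫ p = g ≫ nodeProj C a ≫ Spec.map (CommRingCat.ofHom (algebraMap R C))) (u : U)
    (hx : PolyNodeRing.x C a ∈ (g u : PrimeSpectrum (PolyNodeRing C a)).asIdeal)
    (hy : PolyNodeRing.y C a ∈ (g u : PrimeSpectrum (PolyNodeRing C a)).asIdeal) :
    letI Q := (g u : PrimeSpectrum (PolyNodeRing C a)).asIdeal.comap (algebraMap C (PolyNodeRing C a))
    algebraMap C (Localization.AtPrime Q) a ≠ 0 := by
  intro h0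
  let w : PrimeSpectrum (PolyNodeRing C a) := g u
  let Q := w.asIdeal.comap (algebraMap C (PolyNodeRing C a))
  let O := Localization.AtPrime Q
  haveI : Module.Flat R O := Module.Flat.trans R C O
  have hϖ0 : algebraMap R O ϖ ∉ nilradical O := by
    intro h
    obtain ⟨n, hn⟩ := mem_nilradical.1 h
    have h1 : IsSMulRegular O (ϖ ^ n) := Module.Flat.isSMulRegular_of_nonZeroDivisors
      (mem_nonZeroDivisors_of_ne_zero (pow_ne_zero n hϖ.ne_zero))
    have := h1 (a₁ := (1 : O)) (a₂ := 0) (by simp only [Algebra.smul_def, mul_one, mul_zero, map_pow, hn])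
    exact one_ne_zero this
  rw [mem_nilradical, nilpotent_iff_mem_prime] at hϖ0
  push Not at hϖ0
  obtain ⟨P, hP, hϖP⟩ := hϖ0
  haveI : P.IsPrime := hP
  let Q₀ := P.comap (algebraMap C O)
  obtain ⟨⟨c, hc⟩, hca⟩ := (IsLocalization.map_eq_zero_iff Q.primeCompl O a).1 h0
  have hQ₀ : Q₀ ≤ Q := fun z hz => by
    by_contra h
    exact hP.ne_top (Ideal.eq_top_of_isUnit_mem _ hz (IsLocalization.map_units (M := Q.primeCompl) O ⟨z, h⟩))
  have hc0 : c ∉ Q₀ := fun h => hc (hQ₀ h)
  have ha0 : a ∈ Q₀ := by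
    show algebraMap C O a ∈ P
    rw [h0]; exact P.zero_mem
  obtain ⟨w₀, hw₀, hle, hw₀Q, hx₀, hy₀⟩ := exists_origin Q₀ ha0 w.asIdeal hx hy hQ₀
  haveI := hw₀
  let z₀ : ↥(Spec (CommRingCat.of (Node C a))) := (⟨w₀, hw₀⟩ : PrimeSpectrum (PolyNodeRing C a))
  have hsp : z₀ ⤳ g u := (PrimeSpectrum.le_iff_specializes ⟨w₀, hw₀⟩ w).1 hle
  obtain ⟨u₀, hu₀, hgu₀⟩ := Flat.generalizingMap (f := g) hsp
  have hpx : ϖ ∉ (p (gU u₀) : PrimeSpectrum R).asIdeal := by
    rw [← Scheme.Hom.comp_apply, h4, Scheme.Hom.comp_apply, hgu₀]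
    intro h
    have h' : algebraMap C (PolyNodeRing C a) (algebraMap R C ϖ) ∈ w₀ := h
    have h'' : algebraMap C O (algebraMap R C ϖ) ∈ P := hw₀Q.le h'
    exact hϖP ((IsScalarTower.algebraMap_apply R C O ϖ) ▸ h'')
  haveI : IsLocallyNoetherian (Spec (CommRingCat.of (Node C a))) := by
    haveI : IsNoetherianRing C := Algebra.FiniteType.isNoetherianRing R C
    infer_instance
  have hreg := hgen _ hpx
  rw [← Et18.isRegularLocalRing_stalk_iff_of_etale gU u₀, Et18.isRegularLocalRing_stalk_iff_of_etale g u₀,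
    regular_spec_iff, hgu₀] at hreg
  exact not_regular_origin Q₀ hc0 hca w₀ hw₀Q hx₀ hy₀ hreg

end Groth.Agent.Models7.NodeResolve

namespace Groth.Agent.Models7.NodeResolve

variable {R : Type u} [CommRing R] [IsDomain R] [IsDiscreteValuationRing R] {ϖ : R} (hϖ : Irreducible ϖ)
variable {X : Scheme.{u}} (p : X ⟶ Spec (CommRingCat.of R)) [IsLocallyNoetherian X]
include hϖ

/-- A chart near a node. -/
theorem nchart_of_node (hgen : ∀ x, ϖ ∉ (p x : PrimeSpectrum R).asIdeal → IsRegularLocalRing (X.presheaf.stalk x))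
    {C : Type u} [CommRing C] [Algebra R C] [Algebra.Etale R C] {a : C} {U : Scheme.{u}}
    (gU : U ⟶ X) (g : U ⟶ Spec (CommRingCat.of (Node C a))) [Etale gU] [Etale g]
    (h4 : gU ≫ p = g ≫ nodeProj C a ≫ Spec.map (CommRingCat.ofHom (algebraMap R C))) (u : U)
    (hx : PolyNodeRing.x C a ∈ (g u : PrimeSpectrum (PolyNodeRing C a)).asIdeal)
    (hy : PolyNodeRing.y C a ∈ (g u : PrimeSpectrum (PolyNodeRing C a)).asIdeal) :
    ∃ N, NChart ϖ p N (gU u) := by
  let Q := (g u : PrimeSpectrum (PolyNodeRing C a)).asIdeal.comap (algebraMap C (PolyNodeRing C a))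
  obtain ⟨ε, n, hε, heq⟩ := exists_unit_pow_etale hϖ Q a (ne_zero_at p hϖ hgen gU g h4 u hx hy)
  obtain ⟨⟨e, ⟨s, hs⟩⟩, hes⟩ := IsLocalization.surj Q.primeCompl ε
  have he : e ∉ Q := fun he => by
    have h1 : IsUnit (algebraMap C (Localization.AtPrime Q) e) :=
      hes ▸ hε.mul (IsLocalization.map_units (M := Q.primeCompl) (Localization.AtPrime Q) ⟨s, hs⟩)
    exact (mem_maximalIdeal _).1 ((IsLocalization.AtPrime.to_map_mem_maximal_iff _ Q e).2 he) h1
  obtain ⟨⟨k, hk⟩, hk'⟩ := (IsLocalization.eq_iff_exists Q.primeCompl (Localization.AtPrime Q)).1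
    (show algebraMap C (Localization.AtPrime Q) (a * s) = algebraMap C _ (e * algebraMap R C (ϖ ^ n)) by
      rw [map_mul, map_mul, heq, ← IsScalarTower.algebraMap_apply, ← hes]; ring)
  let c := s * k * e
  have hc : c ∉ Q := fun h => by
    rcases Ideal.IsPrime.mem_or_mem inferInstance h with h | h
    · exact ((Ideal.IsPrime.mem_or_mem inferInstance h).elim hs hk)
    · exact he h
  let C' := Localization.Away c
  let ρ := algebraMap C C'
  haveI : Algebra.Etale C C' := Algebra.Etale.of_isLocalizationAway c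
  haveI : Algebra.Etale R C' := Algebra.Etale.comp R C C'
  have hcu : IsUnit (ρ c) := IsLocalization.Away.algebraMap_isUnit c
  obtain ⟨hsk, he'⟩ := (IsUnit.mul_iff.1 (by rwa [map_mul] at hcu : IsUnit (ρ (s * k) * ρ e)))
  rw [map_mul] at hsk
  obtain ⟨hs', hk''⟩ := IsUnit.mul_iff.1 hsk
  have hkey : ρ a = (ρ e * ↑hs'.unit⁻¹) * algebraMap R C' (ϖ ^ n) := by
    refine hs'.mul_right_cancel ?_
    have h1 : ρ k * ρ (a * s) = ρ k * ρ (e * algebraMap R C (ϖ ^ n)) := by rw [← map_mul, ← map_mul]; exact congrArg ρ hk'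
    have h2 := hk''.mul_left_cancel h1
    rw [map_mul, map_mul, ← IsScalarTower.algebraMap_apply] at h2
    rw [h2, mul_assoc, mul_assoc, mul_comm (algebraMap R C' (ϖ ^ n)), ← mul_assoc (↑hs'.unit⁻¹ : C'),
      IsUnit.val_inv_mul, one_mul]
  let j := Spec.map (CommRingCat.ofHom (nodeBC ρ a))
  have sq := isPullback_SpecMap_of_isPushout _ _ _ _ (isPushout_nodeBC ρ a)
  haveI hjo : IsOpenImmersion (Spec.map (CommRingCat.ofHom ρ)) := IsOpenImmersion.of_isLocalization c
  haveI : IsOpenImmersion j := MorphismProperty.of_isPullback sq hjo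
  obtain ⟨z₀, hz₀⟩ : (nodeProj C a) (g u) ∈ Set.range (Spec.map (CommRingCat.ofHom ρ)).base :=
    (PrimeSpectrum.localization_away_comap_range C' c).ge hc
  obtain ⟨t, ht1, ht2⟩ := Scheme.Pullback.exists_preimage_pullback (f := Spec.map (CommRingCat.ofHom ρ))
    (g := nodeProj C a) z₀ (g u) hz₀
  let z := sq.isoPullback.inv t
  have hz : j z = g u := by
    show (sq.isoPullback.inv ≫ j) t = g u
    rw [sq.isoPullback_inv_snd]
    exact ht2
  obtain ⟨v, hv, -⟩ := Scheme.Pullback.exists_preimage_pullback (f := g) (g := j) u z hz.symm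
  haveI : Etale (pullback.snd g j) := MorphismProperty.pullback_snd _ _ ‹Etale g›
  haveI : Etale (pullback.fst g j) := MorphismProperty.pullback_fst _ _ inferInstance
  refine ⟨n, ?_⟩
  have key := nchart_of_scaled (ϖ := ϖ) p (C := C') (a := ρ a) (m := n) (N := n) le_rfl
    (he'.mul (Units.isUnit hs'.unit⁻¹)) hkey (pullback.fst g j ≫ gU) (pullback.snd g j) (by
      rw [Category.assoc, h4, pullback.condition_assoc]
      simp only [nodeProj, j, ← Spec.map_comp]
      congr 2
      ext r
      show nodeBC ρ a (nodeMap C a (algebraMap R C r)) = nodeMap C' (ρ a) (algebraMap R C' r)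
      rw [← RingHom.comp_apply (nodeBC ρ a), nodeBC_comp, RingHom.comp_apply]
      exact congrArg _ (IsScalarTower.algebraMap_apply R C C' r).symm) v
  rwa [Scheme.Hom.comp_apply, hv] at key

/-- Charts of bounded thickness exist. -/
theorem exists_nchart (hgen : ∀ x, ϖ ∉ (p x : PrimeSpectrum R).asIdeal → IsRegularLocalRing (X.presheaf.stalk x))
    (hc : ∀ x, HasChart p x) (x : X) : ∃ N, NChart ϖ p N x := by
  obtain ⟨C, hC, a, U, gU, gV, g, h1, h2, h3, h4, u, rfl⟩ := hc x
  haveI := h1; haveI := h3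
  letI : Algebra R C := (Spec.preimage gV).hom.toAlgebra
  have hV : Spec.map (CommRingCat.ofHom (algebraMap R C)) = gV := Spec.map_preimage gV
  haveI : Algebra.Etale R C := RingHom.etale_algebraMap.1 ((HasRingHomProperty.Spec_iff (P := @Etale)).1 (hV.symm ▸ h2))
  rw [← hV] at h4
  by_cases hx : PolyNodeRing.x C a ∈ (g u : PrimeSpectrum (PolyNodeRing C a)).asIdeal
  swap; · exact ⟨0, nchart_of_x p gU g h4 u hx⟩
  by_cases hy : PolyNodeRing.y C a ∈ (g u : PrimeSpectrum (PolyNodeRing C a)).asIdeal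
  · exact nchart_of_node hϖ p hgen gU g h4 u hx hy
  · let σ : PolyNodeRing C a →+* PolyNodeRing C a := (NodePreimage.swap a).toRingHom
    haveI : Etale (Spec.map (CommRingCat.ofHom σ)) := (HasRingHomProperty.Spec_iff (P := @Etale)).2
      (RingHom.Etale.of_bijective (Function.Involutive.bijective (NodePreimage.swap_swap a)))
    refine ⟨0, nchart_of_x (ϖ := ϖ) p gU (g ≫ Spec.map (CommRingCat.ofHom σ)) ?_ u ?_⟩
    · rw [h4, Category.assoc]
      simp only [nodeProj, ← Spec.map_comp]
      congr 2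
      ext r
      exact ((NodePreimage.swap a).commutes (algebraMap R C r)).symm
    · intro h
      have h' : NodePreimage.swap a (PolyNodeRing.x C a) ∈ (g u : PrimeSpectrum (PolyNodeRing C a)).asIdeal := h
      rw [NodePreimage.swap_x] at h'
      exact hy h'

end Groth.Agent.Models7.NodeResolve
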