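import Groth.Agent.Models7.NodeResolve.Initial
import Groth.Agent.VarietyLib.SmoothStalk
import Groth.Agent.Inters29.Model
import Groth.Agent.Inters29.ModelCurve
import Groth.Prelude.Def_Models
import Groth.Prelude.Def_ModelsSS
import Groth.Prelude.Def_Curve

/-!
# Every nodal model is dominated by a regular nodal model
-/

set_option autoImplicit false
set_option backward.isDefEq.respectTransparency false
set_option linter.style.haveILetI false

universe u

open CategoryTheory CategoryTheory.Limits AlgebraicGeometry IsLocalRing TopologicalSpace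
open Groth.Agent.Clifford24.Nodal

namespace Groth.Agent.Models7.NodeResolve

variable {R : Type u} [CommRing R] [IsDomain R] [IsDiscreteValuationRing R] {ϖ : R} (hϖ : Irreducible ϖ)
variable {C : Scheme.{u}} {f : C ⟶ Spec (CommRingCat.of (FractionRing R))}
include hϖ

theorem param_notMem_of_range {X : Scheme.{u}} {p : X ⟶ Spec (CommRingCat.of R)} {g : C ⟶ X}
    (hg : IsPullback g f p (Spec.map (CommRingCat.ofHom (algebraMap R (FractionRing R))))) (c : C) :
    ϖ ∉ (p (g c) : PrimeSpectrum R).asIdeal := by
  rw [← Scheme.Hom.comp_apply, hg.w, Scheme.Hom.comp_apply]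
  intro h
  have h' : algebraMap R (FractionRing R) ϖ ∈ (f c : PrimeSpectrum (FractionRing R)).asIdeal := h
  rw [Subsingleton.elim (α := PrimeSpectrum (FractionRing R)) (f c) ⟨⊥, Ideal.isPrime_bot⟩] at h'
  exact hϖ.ne_zero (IsFractionRing.injective R (FractionRing R) ((Ideal.mem_bot.1 h').trans (map_zero _).symm))

theorem mem_range_of_param_notMem {X : Scheme.{u}} {p : X ⟶ Spec (CommRingCat.of R)} {g : C ⟶ X}
    (hg : IsPullback g f p (Spec.map (CommRingCat.ofHom (algebraMap R (FractionRing R))))) {x : X}
    (hx : ϖ ∉ (p x : PrimeSpectrum R).asIdeal) : x ∈ Set.range g := by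
  obtain ⟨t, ht, -⟩ := Scheme.Pullback.exists_preimage_pullback (f := p)
    (g := Spec.map (CommRingCat.ofHom (algebraMap R (FractionRing R)))) x
    (⟨⊥, Ideal.isPrime_bot⟩ : PrimeSpectrum (FractionRing R)) (by
      refine PrimeSpectrum.ext ?_
      have hP : (p x : PrimeSpectrum R).asIdeal = ⊥ := by
        by_contra hne
        haveI := Ideal.IsPrime.isMaximal (p x : PrimeSpectrum R).isPrime hne
        exact hx ((IsLocalRing.eq_maximalIdeal (show (p x : PrimeSpectrum R).asIdeal.IsMaximal from inferInstance)).symm ▸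
          hϖ.not_isUnit)
      rw [hP]
      exact (Ideal.comap_bot_of_injective _ (IsFractionRing.injective R (FractionRing R))).symm)
  refine ⟨hg.isoPullback.inv t, ?_⟩
  rw [← Scheme.Hom.comp_apply, hg.isoPullback_inv_fst]
  exact ht

/-- Iterating the blow-ups of the singular points. -/
theorem exists_regular_nodal (N : ℕ) : ∀ (X : Scheme.{u}) (p : X ⟶ Spec (CommRingCat.of R)) [IsProper p] (g : C ⟶ X),
    IsPullback g f p (Spec.map (CommRingCat.ofHom (algebraMap R (FractionRing R)))) →
    (∀ x, NChart ϖ p (N + 1) x) →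
    ∃ (X' : Scheme.{u}) (p' : X' ⟶ Spec (CommRingCat.of R)),
      Models.IsRegularProperModel R X' p' C f ∧ Curv2.IsNodalFamily p' := by
  induction N with
  | zero =>
    intro X p _ g hg h
    haveI : IsLocallyNoetherian X := LocallyOfFiniteType.isLocallyNoetherian p
    haveI := flat_of_nchart h
    haveI : LocallyOfFinitePresentation p := inferInstance
    exact ⟨X, p, ⟨⟨inferInstance, inferInstance, inferInstance, g, hg⟩, inferInstance,
      isRegular_of_nchart_one hϖ h⟩, (isNodalFamily_iff p).2 ⟨inferInstance, inferInstance, fun x => (h x).hasChart⟩⟩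
  | succ N ih =>
    intro X p _ g hg h
    haveI : IsLocallyNoetherian X := LocallyOfFiniteType.isLocallyNoetherian p
    obtain ⟨X', b, hb, hch, hiso⟩ := exists_step hϖ (N := N + 1) (by omega) h
    haveI := hb
    haveI : IsOpenImmersion g := MorphismProperty.of_isPullback (P := @IsOpenImmersion) hg.flip
      (Inters29.isOpenImmersion_generic R)
    let V : X.Opens := g.opensRange
    haveI := hiso V (by rintro _ ⟨c, rfl⟩; exact param_notMem_of_range hϖ hg c)
    let l : C ⟶ V.toScheme := IsOpenImmersion.lift V.ι g (by rw [Scheme.Opens.range_ι]; exact subset_rfl)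
    have hl : l ≫ V.ι = g := IsOpenImmersion.lift_fac _ _ _
    let g' : C ⟶ X' := (l ≫ inv (b ∣_ V)) ≫ (b ⁻¹ᵁ V).ι
    have sq : IsPullback g' (𝟙 C) b g := by
      rw [← hl]
      refine IsPullback.paste_horiz (IsPullback.of_vert_isIso ⟨?_⟩) (isPullback_morphismRestrict b V).flip
      rw [Category.assoc, IsIso.inv_hom_id, Category.comp_id, Category.id_comp]
    have hg' : IsPullback g' f (b ≫ p) (Spec.map (CommRingCat.ofHom (algebraMap R (FractionRing R)))) := by
      simpa using sq.paste_vert hg
    exact ih X' (b ≫ p) g' hg' hch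

/-- **Regular nodal models.** -/
theorem exists_regular_nodal_model (hC : Curve.IsSmoothProperCurve (FractionRing R) C f)
    (h : Models.HasSemistableReduction R C f) :
    ∃ (X : Scheme.{u}) (p : X ⟶ Spec (CommRingCat.of R)),
      Models.IsRegularProperModel R X p C f ∧ Curv2.IsNodalFamily p := by
  obtain ⟨X, p, ⟨-, -, -, g, hg⟩, hp, hn⟩ := h
  haveI := hp
  haveI : IsLocallyNoetherian X := LocallyOfFiniteType.isLocallyNoetherian p
  haveI : CompactSpace X := QuasiCompact.compactSpace_of_compactSpace p
  obtain ⟨-, -, hc⟩ := (isNodalFamily_iff p).1 hn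
  haveI : IsOpenImmersion g := MorphismProperty.of_isPullback (P := @IsOpenImmersion) hg.flip
    (Inters29.isOpenImmersion_generic R)
  haveI : Smooth f := hC.2.1
  have hgen : ∀ x, ϖ ∉ (p x : PrimeSpectrum R).asIdeal → IsRegularLocalRing (X.presheaf.stalk x) := fun x hx => by
    obtain ⟨c, rfl⟩ := mem_range_of_param_notMem hϖ hg hx
    haveI := VarietyLib.isRegularLocalRing_stalk_of_smooth (FractionRing R) C f c
    exact IsRegularLocalRing.of_ringEquiv (asIso (g.stalkMap c)).commRingCatIsoToRingEquiv.symm
  obtain ⟨N, hN⟩ := exists_bound ϖ p (exists_nchart hϖ p hgen hc)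
  exact exists_regular_nodal hϖ N X p g hg fun x => (hN x).mono (Nat.le_succ N)

end Groth.Agent.Models7.NodeResolve
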