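import Groth.Agent.Models7.NodeResolve.Ring
import Groth.Agent.CAlgH.RegularFieldExt
import Groth.Agent.CAlgH3.RegularLocal
import Groth.Agent.CAlgH3.Factorial
import Mathlib.RingTheory.RegularLocalRing.Polynomial
import Mathlib.RingTheory.DualNumber

/-!
# Regular points of `R[x, y]/(xy - ϖ ^ m)`
-/

set_option autoImplicit false
set_option backward.isDefEq.respectTransparency false
set_option linter.style.haveILetI false

universe u

open SpinCurv IsLocalRing
open scoped LaurentPolynomial

namespace Groth.Agent.Models7.NodeResolve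

open NodePreimage

variable {R : Type u} [CommRing R] [IsDomain R] [IsDiscreteValuationRing R] {ϖ : R} (hϖ : Irreducible ϖ)

/-- The origin of the closed fibre. -/
noncomputable def originIdeal (ϖ : R) (m : ℕ) : Ideal (PolyNodeRing R (ϖ ^ m)) :=
  Ideal.span {PolyNodeRing.x R _, PolyNodeRing.y R _, algebraMap R _ ϖ}

include hϖ

theorem isMaximal_originIdeal {m : ℕ} (hm : 1 ≤ m) : (originIdeal ϖ m).IsMaximal := by
  have h0 : residue R ϖ = 0 := (residue_eq_zero_iff ϖ).2 (hϖ.maximalIdeal_eq ▸ Ideal.mem_span_singleton_self ϖ)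
  let φ : PolyNodeRing R (ϖ ^ m) →ₐ[R] ResidueField R := lift (ϖ ^ m) 0 0 (by
    show (0 : ResidueField R) * 0 = residue R (ϖ ^ m)
    rw [map_pow, h0, zero_pow (by omega), zero_mul])
  have hsurj : Function.Surjective φ.toRingHom := fun c => by
    obtain ⟨r, rfl⟩ := residue_surjective c
    exact ⟨algebraMap R _ r, φ.commutes r⟩
  have hker : originIdeal ϖ m = RingHom.ker φ.toRingHom := by
    refine le_antisymm ?_ fun z hz => ?_
    · rw [originIdeal, Ideal.span_le]
      rintro w (rfl | rfl | rfl)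
      · exact lift_x _
      · exact lift_y _
      · exact (φ.commutes ϖ).trans h0
    · obtain ⟨f, rfl⟩ := Ideal.Quotient.mk_surjective z
      have h1 := sub_algebraMap_mem (ϖ ^ m) (P := originIdeal ϖ m) (Ideal.subset_span (by simp))
        (Ideal.subset_span (by simp)) f
      have h2 : MvPolynomial.constantCoeff f ∈ maximalIdeal R := by
        rw [← residue_eq_zero_iff]
        have h3 : φ (Ideal.Quotient.mk _ f - algebraMap R _ (MvPolynomial.constantCoeff f)) = 0 := by
          have hle : originIdeal ϖ m ≤ RingHom.ker φ.toRingHom := by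
            rw [originIdeal, Ideal.span_le]
            rintro w (rfl | rfl | rfl)
            · exact lift_x _
            · exact lift_y _
            · exact (φ.commutes ϖ).trans h0
          exact hle h1
        rw [map_sub, show φ (Ideal.Quotient.mk _ f) = 0 from hz, zero_sub, neg_eq_zero, AlgHom.commutes] at h3
        exact h3
      rw [hϖ.maximalIdeal_eq, Ideal.mem_span_singleton'] at h2
      obtain ⟨c, hc⟩ := h2
      have h3 : algebraMap R (PolyNodeRing R (ϖ ^ m)) (MvPolynomial.constantCoeff f) ∈ originIdeal ϖ m := by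
        rw [← hc, map_mul]
        exact Ideal.mul_mem_left _ _ (Ideal.subset_span (by simp))
      simpa using add_mem h1 h3
  rw [hker]
  exact RingHom.ker_isMaximal_of_surjective _ hsurj

omit hϖ in
/-- Regularity away from the zero locus of the first coordinate. -/
theorem regular_of_x_notMem (π : R) (P : Ideal (PolyNodeRing R π)) [P.IsPrime]
    (hx : PolyNodeRing.x R π ∉ P) : IsRegularLocalRing (Localization.AtPrime P) := by
  letI := (chart π).toRingHom.toAlgebra
  haveI := isLocalizationAway_chart π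
  haveI hL : IsRegularRing R[T;T⁻¹] :=
    @CAlgH.isRegularRing_localization (Polynomial R) _ _ (Submonoid.powers Polynomial.X) R[T;T⁻¹] _ _
      LaurentPolynomial.isLocalization
  have hdisj : Disjoint (Submonoid.powers (PolyNodeRing.x R π) : Set (PolyNodeRing R π)) P :=
    Set.disjoint_left.2 fun w hw hwP => by
      obtain ⟨n, rfl⟩ := (Submonoid.mem_powers_iff _ _).1 hw
      exact hx (Ideal.IsPrime.mem_of_pow_mem ‹_› n hwP)
  let Q : Ideal R[T;T⁻¹] := P.map (algebraMap (PolyNodeRing R π) R[T;T⁻¹])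
  haveI : Q.IsPrime := IsLocalization.isPrime_of_isPrime_disjoint (Submonoid.powers (PolyNodeRing.x R π)) _ P ‹_› hdisj
  have hQ : Q.comap (algebraMap (PolyNodeRing R π) R[T;T⁻¹]) = P :=
    IsLocalization.under_map_of_isPrime_disjoint (Submonoid.powers (PolyNodeRing.x R π)) R[T;T⁻¹] ‹_› hdisj
  haveI : IsLocalization.AtPrime (Localization.AtPrime Q) P := by
    have := IsLocalization.isLocalization_isLocalization_atPrime_isLocalization
      (Submonoid.powers (PolyNodeRing.x R π)) (Localization.AtPrime Q) Q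
    convert this using 2
    exact hQ.symm
  exact IsRegularLocalRing.of_ringEquiv
    (IsLocalization.algEquiv P.primeCompl (Localization.AtPrime Q) (Localization.AtPrime P)).toRingEquiv

omit hϖ in
/-- Regularity away from the zero locus of the second coordinate. -/
theorem regular_of_y_notMem (π : R) (P : Ideal (PolyNodeRing R π)) [P.IsPrime]
    (hy : PolyNodeRing.y R π ∉ P) : IsRegularLocalRing (Localization.AtPrime P) := by
  let sw : PolyNodeRing R π ≃+* PolyNodeRing R π :=
    (AlgEquiv.ofAlgHom (swap π) (swap π) (AlgHom.ext (swap_swap _)) (AlgHom.ext (swap_swap _))).toRingEquiv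
  haveI := regular_of_x_notMem π (P.comap sw) (fun h => hy (by
    have h' : swap π (PolyNodeRing.x R π) ∈ P := h
    rwa [swap_x] at h'))
  exact IsRegularLocalRing.of_ringEquiv (R := Localization.AtPrime (P.comap sw)) <| IsLocalization.ringEquivOfRingEquiv
    (Localization.AtPrime (P.comap sw)) (Localization.AtPrime P) sw (sw.map_primeCompl_comap_eq P)

omit hϖ in
/-- Two generators and dimension two. -/
theorem regular_of_two_gen {A : Type u} [CommRing A] [IsLocalRing A] [IsNoetherianRing A] (a b : A)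
    (hgen : maximalIdeal A = Ideal.span {a, b}) (hd : ((2 : ℕ∞) : WithBot ℕ∞) ≤ ringKrullDim A) :
    IsRegularLocalRing A := by
  refine IsRegularLocalRing.of_spanFinrank_maximalIdeal_le _ (le_trans ?_ hd)
  rw [hgen]
  calc ((Submodule.spanFinrank (Ideal.span {a, b}) : ℕ) : WithBot ℕ∞) ≤ ((2 : ℕ) : WithBot ℕ∞) := by
        exact_mod_cast (Submodule.spanFinrank_span_le_ncard_of_finite (Set.toFinite _)).trans
          ((Set.ncard_insert_le _ _).trans (by simp))
    _ = ((2 : ℕ∞) : WithBot ℕ∞) := by norm_cast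

/-- Thickness at most one: regular everywhere. -/
theorem regular_of_le_one {m : ℕ} (hm : m ≤ 1) (P : Ideal (PolyNodeRing R (ϖ ^ m))) [P.IsPrime] :
    IsRegularLocalRing (Localization.AtPrime P) := by
  by_cases hx : PolyNodeRing.x R (ϖ ^ m) ∈ P
  swap; · exact regular_of_x_notMem _ P hx
  by_cases hy : PolyNodeRing.y R (ϖ ^ m) ∈ P
  swap; · exact regular_of_y_notMem _ P hy
  rcases Nat.le_one_iff_eq_zero_or_eq_one.1 hm with rfl | rfl
  · refine absurd ((Ideal.eq_top_iff_one P).2 ?_) (Ideal.IsPrime.ne_top ‹_›)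
    have := P.mul_mem_left (PolyNodeRing.x R (ϖ ^ 0)) hy
    rw [x_mul_y'] at this
    rwa [show algebraMap R (PolyNodeRing R (ϖ ^ 0)) (ϖ ^ 0) = 1 from
      (congrArg _ (pow_zero ϖ)).trans (map_one _)] at this
  · have hϖP : algebraMap R _ ϖ ∈ P := by
      have := P.mul_mem_left (PolyNodeRing.x R (ϖ ^ 1)) hy
      rw [x_mul_y'] at this
      rwa [show algebraMap R (PolyNodeRing R (ϖ ^ 1)) (ϖ ^ 1) = algebraMap R _ ϖ from congrArg _ (pow_one ϖ)] at this
    have hP : P = Ideal.span {PolyNodeRing.x R _, PolyNodeRing.y R _} := by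
      refine le_antisymm ?_ (Ideal.span_le.2 (by rintro w (rfl | rfl) <;> assumption))
      have hle : originIdeal ϖ 1 ≤ P := Ideal.span_le.2 (by rintro w (rfl | rfl | rfl) <;> assumption)
      rw [← (isMaximal_originIdeal hϖ le_rfl).eq_of_le (Ideal.IsPrime.ne_top ‹_›) hle, originIdeal, Ideal.span_le]
      rintro w (rfl | rfl | rfl)
      · exact Ideal.subset_span (by simp)
      · exact Ideal.subset_span (by simp)
      · rw [show algebraMap R (PolyNodeRing R (ϖ ^ 1)) ϖ = PolyNodeRing.x R _ * PolyNodeRing.y R _ from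
          ((x_mul_y' _).trans (congrArg _ (pow_one ϖ))).symm]
        exact Ideal.mul_mem_right _ _ (Ideal.subset_span (by simp))
    have hdim : (2 : ℕ∞) ≤ P.height := by
      have hmle : maximalIdeal R ≤ P.comap (algebraMap R _) := by
        rw [hϖ.maximalIdeal_eq, Ideal.span_le, Set.singleton_subset_iff]; exact hϖP
      have hm1 : ϖ ^ 1 ∈ maximalIdeal R := by rw [pow_one]; exact hϖ.not_isUnit
      obtain ⟨Q, hQ, hQP, -, hQx, hQy⟩ := exists_branch_prime (ϖ ^ 1) (ϖ := ϖ) hϖ.not_isUnit hm1 hmle hx hy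
      haveI := hQ
      haveI := NodePreimage.isDomain (ϖ ^ 1) (pow_ne_zero 1 hϖ.ne_zero)
      have hlt1 : (⊥ : Ideal (PolyNodeRing R (ϖ ^ 1))) < Q := bot_lt_iff_ne_bot.2 fun h => by
        rw [h, Ideal.mem_bot] at hQx
        have := congrArg (chart (ϖ ^ 1)) hQx
        rw [chart_x, map_zero] at this
        exact (LaurentPolynomial.isUnit_T (R := R) 1).ne_zero this
      have hlt2 : Q < P := lt_of_le_of_ne hQP fun h => hQy (h ▸ hy)
      haveI : (⊥ : Ideal (PolyNodeRing R (ϖ ^ 1))).IsPrime := Ideal.isPrime_bot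
      have h1 := Ideal.height_add_one_le_of_lt_of_isPrime hlt1
      have h2 := Ideal.height_add_one_le_of_lt_of_isPrime hlt2
      calc (2 : ℕ∞) = (⊥ : Ideal (PolyNodeRing R (ϖ ^ 1))).height + 1 + 1 := by
            rw [Ideal.height_bot, zero_add, one_add_one_eq_two]
        _ ≤ Q.height + 1 := by gcongr
        _ ≤ P.height := h2
    have hgen : maximalIdeal (Localization.AtPrime P) = Ideal.span
        (algebraMap (PolyNodeRing R (ϖ ^ 1)) (Localization.AtPrime P) '' {PolyNodeRing.x R (ϖ ^ 1), PolyNodeRing.y R (ϖ ^ 1)}) := by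
      rw [← Ideal.map_span, ← Localization.AtPrime.map_eq_maximalIdeal]
      exact congrArg (Ideal.map _) hP
    haveI : IsNoetherianRing (Localization.AtPrime P) := IsLocalization.isNoetherianRing P.primeCompl _ inferInstance
    rw [Set.image_insert_eq, Set.image_singleton] at hgen
    refine regular_of_two_gen _ _ hgen ?_
    rw [IsLocalization.AtPrime.ringKrullDim_eq_height P (Localization.AtPrime P)]
    exact WithBot.coe_le_coe.2 hdim

/-- A map to a local ring sending the origin into the maximal ideal passes to the local ring of the origin. -/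
theorem exists_local_map {m : ℕ} (hm : 1 ≤ m) (P : Ideal (PolyNodeRing R (ϖ ^ m))) [P.IsPrime]
    (hP : originIdeal ϖ m ≤ P) {T : Type u} [CommRing T] [IsLocalRing T] (φ : PolyNodeRing R (ϖ ^ m) →+* T)
    (hφ : originIdeal ϖ m ≤ (maximalIdeal T).comap φ) :
    ∃ Φ : Localization.AtPrime P →+* T, (∀ z, Φ (algebraMap _ _ z) = φ z) ∧
      (maximalIdeal (Localization.AtPrime P)).map Φ ≤ maximalIdeal T := by
  have hmax := isMaximal_originIdeal hϖ hm
  have hPe : originIdeal ϖ m = P := hmax.eq_of_le (Ideal.IsPrime.ne_top ‹_›) hP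
  have hce : originIdeal ϖ m = (maximalIdeal T).comap φ :=
    hmax.eq_of_le (Ideal.comap_ne_top _ (maximalIdeal.isMaximal T).ne_top) hφ
  have hunit : ∀ z : P.primeCompl, IsUnit (φ z) := fun z => notMem_maximalIdeal.1 fun h =>
    z.2 (hPe.le (hce.ge (h : (z : PolyNodeRing R (ϖ ^ m)) ∈ (maximalIdeal T).comap φ)))
  refine ⟨IsLocalization.lift hunit, fun z => IsLocalization.lift_eq hunit z, ?_⟩
  rw [← Localization.AtPrime.map_eq_maximalIdeal, Ideal.map_map, IsLocalization.lift_comp,
    Ideal.map_le_iff_le_comap]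
  exact fun z hz => hφ (hPe.ge hz)

omit hϖ in
/-- Products of nilpotent dual numbers vanish. -/
theorem dualNumber_mul {K : Type u} [Field K] (a b : DualNumber K) (ha : TrivSqZeroExt.fst a = 0)
    (hb : TrivSqZeroExt.fst b = 0) : a * b = 0 := by
  refine TrivSqZeroExt.ext ?_ ?_
  · simp [ha]
  · simp [ha, hb]

omit hϖ in
theorem sq_maximalIdeal_dualNumber (K : Type u) [Field K] :
    maximalIdeal (DualNumber K) ^ 2 = ⊥ ∧ ∀ z ∈ maximalIdeal (DualNumber K), TrivSqZeroExt.fst z = 0 := by
  have h : ∀ z ∈ maximalIdeal (DualNumber K), TrivSqZeroExt.fst z = 0 := fun z hz => by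
    by_contra h
    exact (mem_maximalIdeal _).1 hz (TrivSqZeroExt.isUnit_iff_isUnit_fst.2 (isUnit_iff_ne_zero.2 h))
  refine ⟨?_, h⟩
  rw [pow_two, eq_bot_iff, Ideal.mul_le]
  exact fun a ha b hb => (Ideal.mem_bot).2 (dualNumber_mul a b (h a ha) (h b hb))

/-- The coordinate at the origin is not in the square of the maximal ideal. -/
theorem x_notMem_sq {m : ℕ} (hm : 2 ≤ m) (P : Ideal (PolyNodeRing R (ϖ ^ m))) [P.IsPrime]
    (hP : originIdeal ϖ m ≤ P) :
    algebraMap _ (Localization.AtPrime P) (PolyNodeRing.x R (ϖ ^ m)) ∉ maximalIdeal (Localization.AtPrime P) ^ 2 := by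
  have h0 : residue R ϖ = 0 := (residue_eq_zero_iff ϖ).2 hϖ.not_isUnit
  obtain ⟨h2, hmT⟩ := sq_maximalIdeal_dualNumber (ResidueField R)
  let φ : PolyNodeRing R (ϖ ^ m) →ₐ[R] DualNumber (ResidueField R) := lift (ϖ ^ m) DualNumber.eps 0 (by
    rw [mul_zero, IsScalarTower.algebraMap_apply R (ResidueField R) (DualNumber (ResidueField R)),
      show algebraMap R (ResidueField R) (ϖ ^ m) = 0 from by
        show residue R (ϖ ^ m) = 0
        rw [map_pow, h0, zero_pow (by omega)], map_zero])
  obtain ⟨Φ, hΦ, hΦm⟩ := exists_local_map hϖ (by omega) P hP φ.toRingHom (by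
    rw [originIdeal, Ideal.span_le]
    intro w hw
    refine (mem_maximalIdeal _).2 fun hu => ?_
    refine (TrivSqZeroExt.isUnit_iff_isUnit_fst.1 hu).ne_zero ?_
    rcases hw with rfl | rfl | rfl
    · show TrivSqZeroExt.fst (φ _) = 0; rw [lift_x]; simp
    · show TrivSqZeroExt.fst (φ _) = 0; rw [lift_y]; simp
    · show TrivSqZeroExt.fst (φ _) = 0; rw [φ.commutes]; exact h0)
  intro h
  have h' : φ.toRingHom (PolyNodeRing.x R (ϖ ^ m)) ∈ maximalIdeal (DualNumber (ResidueField R)) ^ 2 := by
    rw [← hΦ]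
    refine (Ideal.pow_right_mono hΦm 2) ?_
    rw [← Ideal.map_pow]
    exact Ideal.mem_map_of_mem _ h
  rw [h2, Ideal.mem_bot] at h'
  have h'' : (DualNumber.eps : DualNumber (ResidueField R)) = 0 := (lift_x _).symm.trans h'
  have := congrArg TrivSqZeroExt.snd h''
  simp at this

/-- The uniformiser is not a multiple of the coordinate at the origin. -/
theorem param_notMem_span {m : ℕ} (hm : 2 ≤ m) (P : Ideal (PolyNodeRing R (ϖ ^ m))) [P.IsPrime]
    (hP : originIdeal ϖ m ≤ P) :
    algebraMap _ (Localization.AtPrime P) (algebraMap R (PolyNodeRing R (ϖ ^ m)) ϖ) ∉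
      Ideal.span {algebraMap _ (Localization.AtPrime P) (PolyNodeRing.x R (ϖ ^ m))} := by
  intro hϖx
  let J : Ideal R := Ideal.span {ϖ ^ 2}
  have hJ : J ≠ ⊤ := by
    rw [Ne, Ideal.span_singleton_eq_top, isUnit_pow_iff (by norm_num)]
    exact hϖ.not_isUnit
  haveI : Nontrivial (R ⧸ J) := Ideal.Quotient.nontrivial_iff.2 hJ
  haveI : IsLocalRing (R ⧸ J) := IsLocalRing.of_surjective' (Ideal.Quotient.mk J) Ideal.Quotient.mk_surjective
  let φ : PolyNodeRing R (ϖ ^ m) →ₐ[R] R ⧸ J := lift (ϖ ^ m) 0 0 (by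
    rw [mul_zero]
    exact (Ideal.Quotient.eq_zero_iff_mem.2 (Ideal.mem_span_singleton.2 (pow_dvd_pow ϖ hm))).symm)
  obtain ⟨Φ, hΦ, -⟩ := exists_local_map hϖ (by omega) P hP φ.toRingHom (by
    rw [originIdeal, Ideal.span_le]
    intro w hw
    refine (mem_maximalIdeal _).2 fun hu => ?_
    rcases hw with rfl | rfl | rfl
    · simp [φ, lift_x] at hu
    · simp [φ, lift_y] at hu
    · have h1 : IsUnit (Ideal.Quotient.mk J ϖ) := by
        have h0 : φ (algebraMap R _ ϖ) = Ideal.Quotient.mk J ϖ := φ.commutes ϖ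
        exact h0 ▸ hu
      have h2 := h1.pow 2
      rw [← map_pow, Ideal.Quotient.eq_zero_iff_mem.2 (Ideal.mem_span_singleton_self _)] at h2
      exact not_isUnit_zero h2)
  obtain ⟨c, hc⟩ := Ideal.mem_span_singleton'.1 hϖx
  have h := congrArg Φ hc
  rw [map_mul, hΦ, hΦ] at h
  have h3 : Ideal.Quotient.mk J ϖ = 0 := by
    have h4 : φ (PolyNodeRing.x R (ϖ ^ m)) = 0 := lift_x _
    change Φ c * φ (PolyNodeRing.x R (ϖ ^ m)) = φ (algebraMap R _ ϖ) at h
    rw [h4, mul_zero, φ.commutes] at h
    exact h.symm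
  rw [Ideal.Quotient.eq_zero_iff_mem, Ideal.mem_span_singleton] at h3
  have := (pow_dvd_pow_iff hϖ.ne_zero hϖ.not_isUnit).1 (show ϖ ^ 2 ∣ ϖ ^ 1 by rwa [pow_one])
  omega

omit hϖ in
/-- A singularity criterion. -/
theorem not_regular_of {A : Type u} [CommRing A] [IsLocalRing A] {x t : A} (m : ℕ) (hx : x ∈ maximalIdeal A)
    (hx2 : x ∉ maximalIdeal A ^ 2) (ht : t ^ m ∈ Ideal.span {x}) (ht' : t ∉ Ideal.span {x}) :
    ¬ IsRegularLocalRing A := by
  intro hreg
  obtain ⟨hq, -⟩ := CAlgH3.regular_quotient_of_notMem_sq hx hx2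
  haveI := hq
  haveI := CAlgH3.isDomain_of_isRegularLocalRing (A ⧸ Ideal.span {x})
  exact ht' (((Ideal.Quotient.isDomain_iff_prime _).1 inferInstance).mem_of_pow_mem m ht)

/-- Thickness at least two: the origin is not regular. -/
theorem not_regular {m : ℕ} (hm : 2 ≤ m) (P : Ideal (PolyNodeRing R (ϖ ^ m))) [P.IsPrime]
    (hP : originIdeal ϖ m ≤ P) : ¬ IsRegularLocalRing (Localization.AtPrime P) := by
  refine not_regular_of m ?_ (x_notMem_sq hϖ hm P hP) ?_ (param_notMem_span hϖ hm P hP)
  · rw [← Localization.AtPrime.map_eq_maximalIdeal]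
    exact Ideal.mem_map_of_mem _ (hP (Ideal.subset_span (by simp)))
  · rw [← map_pow, ← map_pow, ← x_mul_y', map_mul]
    exact Ideal.mul_mem_right _ _ (Ideal.mem_span_singleton_self _)

end Groth.Agent.Models7.NodeResolve
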