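import Groth.Agent.Models7.NodePreimage.Points
import Groth.Prelude.Def_BlowUp2
import Groth.Agent.ProjLib.AffineBlowup
import Mathlib.RingTheory.DiscreteValuationRing.Basic

/-!
# The three affine charts of the blow-up of `R[x, y]/(xy - ϖ ^ m)` in the origin
-/

set_option autoImplicit false
set_option backward.isDefEq.respectTransparency false
set_option linter.style.haveILetI false

universe u

open SpinCurv

namespace Groth.Agent.Models7.NodeResolve

open NodePreimage

variable {R : Type u} [CommRing R]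

/-- Maps out of the node ring. -/
noncomputable def lift {S : Type u} [CommRing S] [Algebra R S] (π : R) (a b : S) (h : a * b = algebraMap R S π) :
    PolyNodeRing R π →ₐ[R] S :=
  Ideal.Quotient.liftₐ _ (MvPolynomial.aeval ![a, b]) (fun z hz => by
    obtain ⟨c, rfl⟩ := Ideal.mem_span_singleton'.1 hz
    simp [h])

theorem lift_x {S : Type u} [CommRing S] [Algebra R S] {π : R} {a b : S} (h : a * b = algebraMap R S π) :
    lift π a b h (PolyNodeRing.x R π) = a := by
  show lift π a b h (Ideal.Quotient.mk _ _) = _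
  simp [lift]

theorem lift_y {S : Type u} [CommRing S] [Algebra R S] {π : R} {a b : S} (h : a * b = algebraMap R S π) :
    lift π a b h (PolyNodeRing.y R π) = b := by
  show lift π a b h (Ideal.Quotient.mk _ _) = _
  simp [lift]

theorem x_mul_y' (π : R) : PolyNodeRing.x R π * PolyNodeRing.y R π = algebraMap R (PolyNodeRing R π) π :=
  NodeAlg29.x_mul_y π

theorem hom_ext {S : Type u} [CommRing S] [Algebra R S] {π : R} {φ ψ : PolyNodeRing R π →ₐ[R] S}
    (hx : φ (PolyNodeRing.x R π) = ψ (PolyNodeRing.x R π)) (hy : φ (PolyNodeRing.y R π) = ψ (PolyNodeRing.y R π)) :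
    φ = ψ :=
  Ideal.Quotient.algHom_ext _ (MvPolynomial.algHom_ext fun i => by fin_cases i; exacts [hx, hy])

/-- The node ring is generated by its two coordinates. -/
theorem adjoin_eq_top (π : R) :
    Algebra.adjoin R {PolyNodeRing.x R π, PolyNodeRing.y R π} = ⊤ := by
  refine eq_top_iff.2 fun z _ => ?_
  obtain ⟨q, rfl⟩ := Ideal.Quotient.mk_surjective z
  induction q using MvPolynomial.induction_on with
  | C r => exact Subalgebra.algebraMap_mem _ r
  | add a b ha hb => rw [map_add]; exact add_mem (ha trivial) (hb trivial)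
  | mul_X a i ha =>
    rw [map_mul]
    refine mul_mem (ha trivial) (Algebra.subset_adjoin ?_)
    fin_cases i
    · exact Set.mem_insert _ _
    · exact Set.mem_insert_of_mem _ rfl

/-- An isomorphism of a node ring with an algebra gives generators. -/
theorem adjoin_image {π : R} {N : Type u} [CommRing N] [Algebra R N] (e : PolyNodeRing R π ≃ₐ[R] N) :
    Algebra.adjoin R {e (PolyNodeRing.x R π), e (PolyNodeRing.y R π)} = ⊤ := by
  have := congrArg (Subalgebra.map e.toAlgHom) (adjoin_eq_top π)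
  rw [AlgHom.map_adjoin, Set.image_insert_eq, Set.image_singleton, Algebra.map_top] at this
  rw [show ({e (PolyNodeRing.x R π), e (PolyNodeRing.y R π)} : Set N) =
    {e.toAlgHom (PolyNodeRing.x R π), e.toAlgHom (PolyNodeRing.y R π)} from rfl,
    this]
  exact (AlgHom.range_eq_top _).2 e.surjective

section chart

variable [IsDomain R] {N : Type u} [CommRing N] [Algebra R N] {π' : R}

/-- A criterion for a node ring to be an affine chart of a blow-up. -/
theorem exists_equiv_affineAlgebra (hπ' : π' ≠ 0) (I : Ideal N) (s : N) (a b : Localization.Away s)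
    (hab : a * b = algebraMap R (Localization.Away s) π')
    (ha : a ∈ BlowUp.affineAlgebra N I s) (hb : b ∈ BlowUp.affineAlgebra N I s)
    (θ : N →ₐ[R] PolyNodeRing R π') (hs : θ s ≠ 0)
    (ca cb : N) (hca : a * algebraMap N _ s = algebraMap N _ ca) (hcb : b * algebraMap N _ s = algebraMap N _ cb)
    (hca' : θ ca = PolyNodeRing.x R π' * θ s) (hcb' : θ cb = PolyNodeRing.y R π' * θ s)
    (u v : N) (huv : Algebra.adjoin R {u, v} = ⊤)
    (hu : algebraMap N (Localization.Away s) u ∈ Algebra.adjoin R {a, b})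
    (hv : algebraMap N (Localization.Away s) v ∈ Algebra.adjoin R {a, b})
    (gI : Set N) (hgI : Ideal.span gI = I)
    (hg : ∀ z ∈ gI, ∃ c ∈ Algebra.adjoin R {a, b}, c * algebraMap N _ s = algebraMap N _ z) :
    ∃ ψ : PolyNodeRing R π' ≃+* BlowUp.affineAlgebra N I s,
      ∀ r, ψ (algebraMap R _ r) = algebraMap N _ (algebraMap R N r) := by
  let L := Localization.Away s
  let ψ₀ : PolyNodeRing R π' →ₐ[R] L := lift π' a b hab
  haveI := isDomain π' hπ'
  -- injectivity: compare inside a localization of the node ring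
  let M := Localization.Away (θ s)
  let Θ : L →+* M := IsLocalization.map (T := Submonoid.powers (θ s)) M θ.toRingHom (by
    intro w hw
    obtain ⟨n, rfl⟩ := (Submonoid.mem_powers_iff _ _).1 hw
    exact (Submonoid.mem_powers_iff _ _).2 ⟨n, (map_pow θ s n).symm⟩)
  have hΘ : ∀ z, Θ (algebraMap N L z) = algebraMap _ M (θ z) := fun z => IsLocalization.map_eq _ _
  have hsu : IsUnit (algebraMap _ M (θ s)) := IsLocalization.Away.algebraMap_isUnit (θ s)
  have hcomp : Θ.comp ψ₀.toRingHom = algebraMap (PolyNodeRing R π') M := by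
    refine Ideal.Quotient.ringHom_ext (MvPolynomial.ringHom_ext (fun r => ?_) fun i => ?_)
    · show Θ (ψ₀ (algebraMap R _ r)) = algebraMap _ M (algebraMap R (PolyNodeRing R π') r)
      rw [AlgHom.commutes, IsScalarTower.algebraMap_apply R N L, hΘ, AlgHom.commutes]
    · fin_cases i
      · show Θ (ψ₀ (PolyNodeRing.x R π')) = algebraMap _ M (PolyNodeRing.x R π')
        rw [lift_x]
        refine hsu.mul_right_cancel ?_
        rw [← hΘ s, ← map_mul Θ, hca, hΘ, hca', map_mul, hΘ]
      · show Θ (ψ₀ (PolyNodeRing.y R π')) = algebraMap _ M (PolyNodeRing.y R π')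
        rw [lift_y]
        refine hsu.mul_right_cancel ?_
        rw [← hΘ s, ← map_mul Θ, hcb, hΘ, hcb', map_mul, hΘ]
  have hinj : Function.Injective ψ₀ := by
    have h1 : Function.Injective (algebraMap (PolyNodeRing R π') M) :=
      IsLocalization.injective M (powers_le_nonZeroDivisors_of_noZeroDivisors hs)
    rw [← hcomp, RingHom.coe_comp] at h1
    exact h1.of_comp
  -- surjectivity
  have hadj : Algebra.adjoin R {a, b} = ψ₀.range := by
    rw [← Algebra.map_top, ← adjoin_eq_top, AlgHom.map_adjoin, Set.image_insert_eq, Set.image_singleton, lift_x, lift_y]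
  have hN : ∀ z : N, algebraMap N L z ∈ Algebra.adjoin R {a, b} := fun z => by
    have hz : z ∈ Algebra.adjoin R {u, v} := huv ▸ trivial
    have hle : Algebra.adjoin R {u, v} ≤ (Algebra.adjoin R {a, b}).comap (IsScalarTower.toAlgHom R N L) := by
      rw [Algebra.adjoin_le_iff]
      rintro w (rfl | rfl)
      exacts [hu, hv]
    exact hle hz
  have hrange : (ψ₀.range : Set L) = (BlowUp.affineAlgebra N I s : Set L) := by
    refine Set.Subset.antisymm ?_ ?_
    · rintro _ ⟨z, rfl⟩
      have : ψ₀.range ≤ (BlowUp.affineAlgebra N I s).restrictScalars R := by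
        rw [← hadj, Algebra.adjoin_le_iff]
        rintro w (rfl | rfl)
        exacts [ha, hb]
      exact this ⟨z, rfl⟩
    · rw [← hadj]
      let S' : Subalgebra N L :=
        { (Algebra.adjoin R {a, b}).toSubsemiring with algebraMap_mem' := hN }
      show (BlowUp.affineAlgebra N I s : Set L) ⊆ (S' : Set L)
      refine SetLike.coe_subset_coe.2 (Algebra.adjoin_le ?_)
      rintro _ ⟨z, hz, rfl⟩
      subst hgI
      have key : ∀ z ∈ Ideal.span gI, ∃ c ∈ S', c * algebraMap N L s = algebraMap N L z := by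
        intro z hz
        induction hz using Submodule.span_induction with
        | mem z hz => exact hg z hz
        | zero => exact ⟨0, zero_mem _, by simp⟩
        | add z w _ _ hz hw =>
          obtain ⟨c, hc, hc'⟩ := hz
          obtain ⟨d, hd, hd'⟩ := hw
          exact ⟨c + d, add_mem hc hd, by rw [add_mul, hc', hd', map_add]⟩
        | smul r z _ hz =>
          obtain ⟨c, hc, hc'⟩ := hz
          exact ⟨algebraMap N L r * c, mul_mem (hN r) hc, by rw [mul_assoc, hc', smul_eq_mul, map_mul]⟩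
      obtain ⟨c, hc, hc'⟩ := key z hz
      have e1 : IsLocalization.mk' L z ⟨s, Submonoid.mem_powers s⟩ = c := by
        refine (IsLocalization.Away.algebraMap_isUnit (S := L) s).mul_right_cancel ?_
        rw [hc']
        exact IsLocalization.mk'_spec (M := Submonoid.powers s) L z ⟨s, Submonoid.mem_powers s⟩
      exact e1.symm ▸ hc
  refine ⟨RingEquiv.ofBijective (ψ₀.toRingHom.codRestrict (BlowUp.affineAlgebra N I s) fun z =>
    hrange.le ⟨z, rfl⟩) ⟨fun z w h => hinj (congrArg Subtype.val h), fun w => ?_⟩, fun r => ?_⟩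
  · obtain ⟨z, hz⟩ := hrange.ge w.2
    exact ⟨z, Subtype.ext hz⟩
  · refine Subtype.ext ?_
    show ψ₀ (algebraMap R _ r) = algebraMap N L (algebraMap R N r)
    rw [AlgHom.commutes, IsScalarTower.algebraMap_apply R N L]

end chart

variable [IsDomain R] {ϖ : R} (hϖ : ϖ ≠ 0)
include hϖ

/-- The chart where the first coordinate generates. -/
theorem chart_coord {m : ℕ} (hm : 2 ≤ m) {N : Type u} [CommRing N] [Algebra R N]
    (e : PolyNodeRing R (ϖ ^ m) ≃ₐ[R] N) {X Y : N} (hX : X = e (PolyNodeRing.x R _)) (hY : Y = e (PolyNodeRing.y R _)) :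
    ∃ ψ : PolyNodeRing R (ϖ ^ 1) ≃+* BlowUp.affineAlgebra N (Ideal.span {X, Y, algebraMap R N ϖ}) X,
      ∀ r, ψ (algebraMap R _ r) = algebraMap N _ (algebraMap R N r) := by
  subst hX; subst hY
  let X := e (PolyNodeRing.x R _)
  let Y := e (PolyNodeRing.y R _)
  let L := Localization.Away X
  let a : L := algebraMap N L X
  let iv : L := IsLocalization.Away.invSelf X
  have hiv : a * iv = 1 := IsLocalization.Away.mul_invSelf X
  let b : L := algebraMap R L ϖ * iv
  have hXY : algebraMap N L X * algebraMap N L Y = algebraMap R L (ϖ ^ m) := by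
    rw [← map_mul, ← map_mul e, x_mul_y', AlgEquiv.commutes, ← IsScalarTower.algebraMap_apply]
  let θ : N →ₐ[R] PolyNodeRing R (ϖ ^ 1) := (lift (ϖ ^ m) (PolyNodeRing.x R _)
    (algebraMap R _ (ϖ ^ (m - 1)) * PolyNodeRing.y R _) (by
      rw [mul_left_comm, x_mul_y', ← map_mul, ← pow_add, show m - 1 + 1 = m by omega])).comp e.symm.toAlgHom
  have hθX : θ X = PolyNodeRing.x R _ := by simp [θ, X, lift_x]
  have hθY : θ Y = algebraMap R _ (ϖ ^ (m - 1)) * PolyNodeRing.y R _ := by simp [θ, Y, lift_y]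
  have hIX : X ∈ Ideal.span ({X, Y, algebraMap R N ϖ} : Set N) := Ideal.subset_span (by simp)
  have hIϖ : algebraMap R N ϖ ∈ Ideal.span ({X, Y, algebraMap R N ϖ} : Set N) := Ideal.subset_span (by simp)
  refine exists_equiv_affineAlgebra (pow_ne_zero 1 hϖ) _ X a b ?_ (Subalgebra.algebraMap_mem _ X) ?_ θ ?_
    (X * X) (algebraMap R N ϖ) (map_mul (algebraMap N L) X X).symm ?_ (by rw [map_mul, hθX]) ?_ X Y (adjoin_image e)
    (Algebra.subset_adjoin (Set.mem_insert _ _)) ?_ {X, Y, algebraMap R N ϖ} rfl ?_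
  · show a * (algebraMap R L ϖ * iv) = algebraMap R L (ϖ ^ 1)
    rw [mul_left_comm, hiv, mul_one, pow_one]
  · refine Algebra.subset_adjoin ⟨algebraMap R N ϖ, hIϖ, ?_⟩
    refine (IsLocalization.eq_mk'_iff_mul_eq).2 ?_
    show algebraMap R L ϖ * iv * a = algebraMap N L (algebraMap R N ϖ)
    rw [mul_assoc, mul_comm iv, hiv, mul_one, ← IsScalarTower.algebraMap_apply]
  · rw [hθX]
    intro h
    have := congrArg (chart (ϖ ^ 1)) h
    rw [chart_x, map_zero] at this
    exact (LaurentPolynomial.isUnit_T (R := R) 1).ne_zero this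
  · show algebraMap R L ϖ * iv * a = algebraMap N L (algebraMap R N ϖ)
    rw [mul_assoc, mul_comm iv, hiv, mul_one, ← IsScalarTower.algebraMap_apply]
  · rw [AlgHom.commutes, hθX]
    exact ((mul_comm _ _).trans ((x_mul_y' _).trans
      (congrArg (algebraMap R (PolyNodeRing R (ϖ ^ 1))) (pow_one ϖ)))).symm
  · have e1 : algebraMap N L Y = algebraMap R L (ϖ ^ (m - 1)) * b := by
      rw [← one_mul (algebraMap N L Y), ← hiv, mul_comm a, mul_assoc, hXY]
      show iv * algebraMap R L (ϖ ^ m) = algebraMap R L (ϖ ^ (m - 1)) * (algebraMap R L ϖ * iv)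
      rw [← mul_assoc, ← map_mul, ← pow_succ, show m - 1 + 1 = m by omega, mul_comm]
    rw [e1]
    exact mul_mem (Subalgebra.algebraMap_mem _ _) (Algebra.subset_adjoin (Set.mem_insert_of_mem _ rfl))
  · intro z hz
    have hbA : b ∈ Algebra.adjoin R {a, b} := Algebra.subset_adjoin (Set.mem_insert_of_mem _ rfl)
    have hba : b * a = algebraMap R L ϖ := by
      show algebraMap R L ϖ * iv * a = _
      rw [mul_assoc, mul_comm iv, hiv, mul_one]
    rcases hz with rfl | rfl | rfl
    · exact ⟨1, one_mem _, one_mul _⟩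
    · refine ⟨algebraMap R L (ϖ ^ (m - 2)) * (b * b), mul_mem (Subalgebra.algebraMap_mem _ _) (mul_mem hbA hbA), ?_⟩
      have ha : IsUnit a := IsUnit.of_mul_eq_one iv hiv
      refine ha.mul_right_cancel ?_
      rw [mul_comm (algebraMap N L Y) a, hXY]
      calc algebraMap R L (ϖ ^ (m - 2)) * (b * b) * a * a = algebraMap R L (ϖ ^ (m - 2)) * ((b * a) * (b * a)) := by ring
        _ = algebraMap R L (ϖ ^ m) := by
          rw [hba, ← map_mul, ← map_mul, ← pow_two, ← pow_add, show m - 2 + 2 = m by omega]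
    · exact ⟨b, hbA, hba.trans (IsScalarTower.algebraMap_apply R N L ϖ)⟩

/-- The chart where the uniformiser generates. -/
theorem chart_param {m : ℕ} (hm : 2 ≤ m) {N : Type u} [CommRing N] [Algebra R N]
    (e : PolyNodeRing R (ϖ ^ m) ≃ₐ[R] N) {X Y : N} (hX : X = e (PolyNodeRing.x R _)) (hY : Y = e (PolyNodeRing.y R _)) :
    ∃ ψ : PolyNodeRing R (ϖ ^ (m - 2)) ≃+*
        BlowUp.affineAlgebra N (Ideal.span {X, Y, algebraMap R N ϖ}) (algebraMap R N ϖ),
      ∀ r, ψ (algebraMap R _ r) = algebraMap N _ (algebraMap R N r) := by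
  subst hX; subst hY
  let X := e (PolyNodeRing.x R _)
  let Y := e (PolyNodeRing.y R _)
  let t := algebraMap R N ϖ
  let L := Localization.Away t
  let iv : L := IsLocalization.Away.invSelf t
  have hiv : algebraMap N L t * iv = 1 := IsLocalization.Away.mul_invSelf t
  have hiv' : iv * algebraMap N L t = 1 := by rw [mul_comm, hiv]
  let a : L := algebraMap N L X * iv
  let b : L := algebraMap N L Y * iv
  have hat : ∀ z : N, algebraMap N L z * iv * algebraMap N L t = algebraMap N L z := fun z => by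
    rw [mul_assoc, hiv', mul_one]
  have htR : algebraMap N L t = algebraMap R L ϖ := (IsScalarTower.algebraMap_apply R N L ϖ).symm
  have hXY : algebraMap N L X * algebraMap N L Y = algebraMap R L (ϖ ^ m) := by
    rw [← map_mul, ← map_mul e, x_mul_y', AlgEquiv.commutes, ← IsScalarTower.algebraMap_apply]
  let θ : N →ₐ[R] PolyNodeRing R (ϖ ^ (m - 2)) := (lift (ϖ ^ m) (algebraMap R _ ϖ * PolyNodeRing.x R _)
    (algebraMap R _ ϖ * PolyNodeRing.y R _) (by
      rw [mul_mul_mul_comm, x_mul_y', ← map_mul, ← map_mul, ← pow_two, ← pow_add,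
        show 2 + (m - 2) = m by omega])).comp e.symm.toAlgHom
  have hθX : θ X = algebraMap R _ ϖ * PolyNodeRing.x R _ := by simp [θ, X, lift_x]
  have hθY : θ Y = algebraMap R _ ϖ * PolyNodeRing.y R _ := by simp [θ, Y, lift_y]
  have hIX : X ∈ Ideal.span ({X, Y, t} : Set N) := Ideal.subset_span (by simp)
  have hIY : Y ∈ Ideal.span ({X, Y, t} : Set N) := Ideal.subset_span (by simp)
  refine exists_equiv_affineAlgebra (pow_ne_zero _ hϖ) _ t a b ?_ ?_ ?_ θ ?_
    X Y (hat X) (hat Y) ?_ ?_ X Y (adjoin_image e) ?_ ?_ {X, Y, t} rfl ?_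
  · have h2 : IsUnit (algebraMap N L t * algebraMap N L t) :=
      (IsUnit.of_mul_eq_one iv hiv).mul (IsUnit.of_mul_eq_one iv hiv)
    refine h2.mul_right_cancel ?_
    calc a * b * (algebraMap N L t * algebraMap N L t) =
          (algebraMap N L X * iv * algebraMap N L t) * (algebraMap N L Y * iv * algebraMap N L t) := by
            simp only [a, b]; ring
      _ = algebraMap R L (ϖ ^ (m - 2)) * (algebraMap N L t * algebraMap N L t) := by
            rw [hat, hat, hXY, htR, ← map_mul, ← map_mul, ← pow_two, ← pow_add, show m - 2 + 2 = m by omega]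
  · exact Algebra.subset_adjoin ⟨X, hIX, (IsLocalization.eq_mk'_iff_mul_eq).2 (hat X)⟩
  · exact Algebra.subset_adjoin ⟨Y, hIY, (IsLocalization.eq_mk'_iff_mul_eq).2 (hat Y)⟩
  · show θ (algebraMap R N ϖ) ≠ 0
    rw [AlgHom.commutes]
    intro h
    have := congrArg (chart (ϖ ^ (m - 2))) h
    rw [AlgHom.commutes, map_zero] at this
    exact hϖ ((map_eq_zero_iff _ (FaithfulSMul.algebraMap_injective R _)).1 this)
  · rw [hθX, show θ t = algebraMap R _ ϖ from θ.commutes ϖ, mul_comm]
  · rw [hθY, show θ t = algebraMap R _ ϖ from θ.commutes ϖ, mul_comm]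
  · rw [← hat X, htR]
    exact mul_mem (Algebra.subset_adjoin (Set.mem_insert _ _)) (Subalgebra.algebraMap_mem _ _)
  · rw [← hat Y, htR]
    exact mul_mem (Algebra.subset_adjoin (Set.mem_insert_of_mem _ rfl)) (Subalgebra.algebraMap_mem _ _)
  · intro z hz
    rcases hz with rfl | rfl | rfl
    · exact ⟨a, Algebra.subset_adjoin (Set.mem_insert _ _), hat X⟩
    · exact ⟨b, Algebra.subset_adjoin (Set.mem_insert_of_mem _ rfl), hat Y⟩
    · exact ⟨1, one_mem _, one_mul _⟩

/-- Every chart of the blow-up of the origin is a node ring of smaller thickness. -/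
theorem exists_chart {m : ℕ} (hm : 2 ≤ m) {N : Type u} [CommRing N] [Algebra R N]
    (e : PolyNodeRing R (ϖ ^ m) ≃ₐ[R] N) {X Y : N} (hX : X = e (PolyNodeRing.x R _)) (hY : Y = e (PolyNodeRing.y R _))
    {s : N} (hs : s = X ∨ s = Y ∨ s = algebraMap R N ϖ) :
    ∃ m', m' + 1 ≤ m ∧ ∃ ψ : PolyNodeRing R (ϖ ^ m') ≃+*
        BlowUp.affineAlgebra N (Ideal.span {X, Y, algebraMap R N ϖ}) s,
      ∀ r, ψ (algebraMap R _ r) = algebraMap N _ (algebraMap R N r) := by
  rcases hs with rfl | rfl | rfl
  · exact ⟨1, hm, chart_coord hϖ hm e hX hY⟩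
  · let sw : PolyNodeRing R (ϖ ^ m) ≃ₐ[R] PolyNodeRing R (ϖ ^ m) :=
      AlgEquiv.ofAlgHom (swap (ϖ ^ m)) (swap (ϖ ^ m)) (AlgHom.ext (swap_swap _)) (AlgHom.ext (swap_swap _))
    have h1 := chart_coord hϖ hm (sw.trans e) (X := s) (Y := X)
      (by rw [hY]; exact congrArg e (swap_x _).symm) (by rw [hX]; exact congrArg e (swap_y _).symm)
    refine ⟨1, hm, ?_⟩
    rwa [Set.insert_comm] at h1
  · exact ⟨m - 2, by omega, chart_param hϖ hm e hX hY⟩

end Groth.Agent.Models7.NodeResolve
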