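import Groth.Agent.Models7.NodeResolve.BlowUp
import Groth.Agent.ProjLib.BlowUpBasics

/-!
# One step of the resolution of a nodal family
-/

set_option autoImplicit false
set_option backward.isDefEq.respectTransparency false
set_option linter.style.haveILetI false

universe u

open CategoryTheory CategoryTheory.Limits AlgebraicGeometry IsLocalRing SpinCurv TopologicalSpace
open Groth.Agent.Clifford24.Nodal

namespace Groth.Agent.Models7.NodeResolve

variable {R : Type u} [CommRing R] [IsDomain R] [IsDiscreteValuationRing R] {ϖ : R} (hϖ : Irreducible ϖ)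
variable {X : Scheme.{u}} [IsLocallyNoetherian X] {p : X ⟶ Spec (CommRingCat.of R)}

/-- The singular set. -/
def singSet (X : Scheme.{u}) : Set X := {x | ¬ IsRegularLocalRing (X.presheaf.stalk x)}

include hϖ

theorem isClosed_singSet {N : ℕ} (h : ∀ x, NChart ϖ p N x) : IsClosed (singSet X) := by
  rw [← isOpen_compl_iff, isOpen_iff_forall_mem_open]
  intro x hx
  obtain ⟨m, -, U, gU, g, h1, h2, -, u, rfl⟩ := h x
  haveI := h1; haveI := h2
  have hx' : IsRegularLocalRing (X.presheaf.stalk (gU u)) := not_not.1 hx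
  let W : Set U := {v | ¬ (2 ≤ m ∧ originIdeal ϖ m ≤ (g v : PrimeSpectrum (PolyNodeRing R (ϖ ^ m))).asIdeal)}
  have hW : IsOpen W := by
    by_cases hm : 2 ≤ m
    · have : W = g ⁻¹' (PrimeSpectrum.zeroLocus (originIdeal ϖ m : Set (PolyNodeRing R (ϖ ^ m))))ᶜ := by
        ext v
        simp only [W, hm, true_and]
        rfl
      rw [this]
      exact (PrimeSpectrum.isClosed_zeroLocus _).isOpen_compl.preimage g.continuous
    · have : W = Set.univ := Set.eq_univ_of_forall fun v h => hm h.1
      rw [this]; exact isOpen_univ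
  refine ⟨gU '' W, ?_, gU.isOpenMap _ hW, u, (regular_iff_chart hϖ gU g u).1 hx', rfl⟩
  rintro _ ⟨v, hv, rfl⟩
  exact not_not.2 ((regular_iff_chart hϖ gU g v).2 hv)

theorem param_mem_of_singular {N : ℕ} (h : ∀ x, NChart ϖ p N x) {x : X} (hx : x ∈ singSet X) :
    ϖ ∈ (p x : PrimeSpectrum R).asIdeal := by
  obtain ⟨m, -, U, gU, g, h1, h2, h3, u, rfl⟩ := h x
  haveI := h1; haveI := h2
  have h5 := (not_iff_not.2 (regular_iff_chart hϖ gU g u)).1 hx
  rw [not_not] at h5
  have hmem : algebraMap R (PolyNodeRing R (ϖ ^ m)) ϖ ∈ (g u : PrimeSpectrum (PolyNodeRing R (ϖ ^ m))).asIdeal :=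
    h5.2 (Ideal.subset_span (by simp))
  have e : p (gU u) = (nodeProj R (ϖ ^ m)) (g u) := by rw [← Scheme.Hom.comp_apply, h3, Scheme.Hom.comp_apply]
  rw [e]
  exact hmem

omit hϖ [IsDomain R] [IsDiscreteValuationRing R] [IsLocallyNoetherian X] in
/-- Charts on the blow-up over a regular neighbourhood. -/
theorem nchart_of_iso {X' : Scheme.{u}} (b : X' ⟶ X) {N m : ℕ} (hm : m ≤ N) {U : Scheme.{u}} (gU : U ⟶ X)
    (g : U ⟶ Spec (CommRingCat.of (Node R (ϖ ^ m)))) [Etale gU] [Etale g] (h3 : gU ≫ p = g ≫ nodeProj R (ϖ ^ m))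
    [IsIso (pullback.snd b gU)] (w : ↥(pullback b gU)) : NChart ϖ (b ≫ p) N (pullback.fst b gU w) := by
  refine ⟨m, hm, pullback b gU, pullback.fst b gU, pullback.snd b gU ≫ g, MorphismProperty.pullback_fst _ _ ‹_›,
    inferInstance, ?_, w, rfl⟩
  rw [pullback.condition_assoc, h3, Category.assoc]

/-- The blow-up of the singular points of a family of thickness `≤ N + 1` has thickness `≤ N`. -/
theorem nchart_blowUp {X' : Scheme.{u}} (b : X' ⟶ X) (hc : IsClosed (singSet X))
    (hb : BlowUp.IsBlowUp b (Scheme.IdealSheafData.vanishingIdeal ⟨singSet X, hc⟩)) {N : ℕ} (hN : 1 ≤ N)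
    (h : ∀ x, NChart ϖ p (N + 1) x) (x' : X') : NChart ϖ (b ≫ p) N x' := by
  obtain ⟨m, hm, U, gU, g, h1, h2, h3, u, hu⟩ := h (b x')
  haveI := h1; haveI := h2
  let I := Scheme.IdealSheafData.vanishingIdeal ⟨singSet X, hc⟩
  obtain ⟨w, hw, -⟩ := Scheme.Pullback.exists_preimage_pullback (f := b) (g := gU) x' u hu.symm
  have hbU : BlowUp.IsBlowUp (pullback.snd b gU) (I.comap gU) :=
    CAlgH.BlowupFlatPowers.isBlowUp_of_isPullback hb (IsPullback.of_hasPullback b gU)
      (SDiv28.isEffCartier_comap_of_flat hb.1 _)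
  have hI : I.comap gU = Scheme.IdealSheafData.vanishingIdeal
      ((⟨singSet X, hc⟩ : Closeds X).preimage gU.continuous) := comap_vanishingIdeal_etale gU _
  by_cases hm2 : 2 ≤ m
  · -- over a singular chart
    have hJ : I.comap gU = (originCentre ϖ m).comap g := by
      rw [hI, originCentre, comap_vanishingIdeal_etale g]
      refine congrArg _ (Closeds.ext (Set.ext fun v => ?_))
      show ¬ IsRegularLocalRing (X.presheaf.stalk (gU v)) ↔ g v ∈ PrimeSpectrum.zeroLocus _
      rw [regular_iff_chart hϖ gU g v, not_not]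
      exact ⟨fun h => h.2, fun h => ⟨hm2, h⟩⟩
    let bN := BlowUpLib.blowUpMap (originCentre ϖ m)
    have hbN : BlowUp.IsBlowUp (pullback.snd bN g) ((originCentre ϖ m).comap g) :=
      CAlgH.BlowupFlatPowers.isBlowUp_of_isPullback BlowUpLib.isBlowUp_blowUpMap (IsPullback.of_hasPullback bN g)
        (SDiv28.isEffCartier_comap_of_flat BlowUpLib.good_blowUpMap _)
    obtain ⟨E, hE⟩ := BlowUpLib.exists_iso_of_isBlowUp hbU (hJ ▸ hbN)
    let z := pullback.fst bN g (E.hom w)
    obtain ⟨m', hm', c, hco, hc', hz⟩ := node_blowUp hϖ hm2 z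
    haveI := hco
    let G : pullback b gU ⟶ BlowUpLib.B (originCentre ϖ m) := E.hom ≫ pullback.fst bN g
    haveI : Etale (pullback.fst bN g) := MorphismProperty.pullback_fst _ _ ‹_›
    haveI : Etale G := inferInstance
    haveI : Etale (pullback.fst b gU) := MorphismProperty.pullback_fst _ _ ‹_›
    haveI : Etale (pullback.snd G c) := MorphismProperty.pullback_snd _ _ ‹Etale G›
    haveI : Etale (pullback.fst G c) := MorphismProperty.pullback_fst _ _ inferInstance
    obtain ⟨z', hz'⟩ := hz
    obtain ⟨v, hv, -⟩ := Scheme.Pullback.exists_preimage_pullback (f := G) (g := c) w z'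
      (show G w = c z' from hz'.symm)
    refine ⟨m', by omega, pullback G c, pullback.fst G c ≫ pullback.fst b gU, pullback.snd G c, inferInstance,
      inferInstance, ?_, v, ?_⟩
    · rw [Category.assoc, ← hc', ← reassoc_of% (pullback.condition (f := G) (g := c))]
      congr 1
      show pullback.fst b gU ≫ b ≫ p = (E.hom ≫ pullback.fst bN g) ≫ bN ≫ nodeProj R (ϖ ^ m)
      rw [pullback.condition_assoc, h3, Category.assoc, pullback.condition_assoc, ← reassoc_of% hE]
    · rw [Scheme.Hom.comp_apply, hv, hw]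
  · -- over a regular chart
    have hempty : (⟨singSet X, hc⟩ : Closeds X).preimage gU.continuous = ⊥ := Closeds.ext (Set.eq_empty_of_forall_notMem
      fun v hv => hv ((regular_iff_chart hϖ gU g v).2 fun h => hm2 h.1))
    have hU1 : BlowUp.IsBlowUp (𝟙 U) (I.comap gU) := by
      have htop : I.comap gU = ⊤ := by
        rw [← Scheme.IdealSheafData.support_eq_bot_iff, Scheme.IdealSheafData.support_comap]
        refine Closeds.ext ?_
        rw [Closeds.coe_bot]
        refine Set.eq_empty_of_forall_notMem fun v hv => ?_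
        have : gU v ∈ (I.support : Set X) := hv
        rw [Scheme.IdealSheafData.coe_support_vanishingIdeal] at this
        exact this ((regular_iff_chart hϖ gU g v).2 fun h => hm2 h.1)
      rw [htop]
      exact ⟨by rw [Scheme.IdealSheafData.comap_id]; exact ProjLib.isEffCartierIdeal_top,
        fun Y k _ => ⟨k, Category.comp_id k, fun l hl => (Category.comp_id l).symm.trans hl⟩⟩
    obtain ⟨E, hE⟩ := BlowUpLib.exists_iso_of_isBlowUp hbU hU1
    haveI : IsIso (pullback.snd b gU) := by rw [← hE]; infer_instance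
    have := nchart_of_iso (p := p) b (show m ≤ N by omega) gU g h3 w
    rwa [hw] at this

/-- **One step.** -/
theorem exists_step {N : ℕ} (hN : 1 ≤ N) (h : ∀ x, NChart ϖ p (N + 1) x) :
    ∃ (X' : Scheme.{u}) (b : X' ⟶ X), IsProper b ∧ (∀ x', NChart ϖ (b ≫ p) N x') ∧
      ∀ V : X.Opens, (∀ x ∈ V, ϖ ∉ (p x : PrimeSpectrum R).asIdeal) → IsIso (b ∣_ V) := by
  have hc := isClosed_singSet hϖ h
  let I := Scheme.IdealSheafData.vanishingIdeal ⟨singSet X, hc⟩
  obtain ⟨X', b, hb⟩ := BlowUpLib.exists_isBlowUp (I := I)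
  refine ⟨X', b, BlowUpLib.isProper_of_isBlowUp hb fun V => ?_, nchart_blowUp hϖ b hc hb hN h, fun V hV => ?_⟩
  · haveI := IsLocallyNoetherian.component_noetherian V
    exact IsNoetherian.noetherian _
  · exact ProjLib.isIso_morphismRestrict hb V (Set.disjoint_left.2 fun x hs hx => hV x hx
      (param_mem_of_singular hϖ h ((Scheme.IdealSheafData.coe_support_vanishingIdeal (⟨singSet X, hc⟩ : Closeds X)).le hs)))

end Groth.Agent.Models7.NodeResolve
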